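import Groth.Agent.L17.ClosedPush
import Groth.Agent.L21.RR.IdealTwist
import Groth.Agent.L03.BlowPt.ZeroPoint

/-!
# Tensor products with a line bundle on a closed subscheme
-/

set_option autoImplicit false
set_option backward.isDefEq.respectTransparency false
set_option backward.isDefEq.respectTransparency.types false
set_option linter.style.haveILetI false
universe u

open CategoryTheory CategoryTheory.Limits AlgebraicGeometry Opposite TopologicalSpace TensorProduct
open Groth.L17.ClosedPush Groth.L00.PullStalk

noncomputable section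

namespace Groth.L03.SurfFib.PushTensor

/-- Tensoring with a cyclic module preserves injectivity of maps between modules it acts on. -/
theorem lTensor_injective_of_cyclic {R M A B : Type*} [CommRing R] [AddCommGroup M] [Module R M]
    [AddCommGroup A] [Module R A] [AddCommGroup B] [Module R B] (e : M)
    (he : Function.Surjective fun r : R => r • e) (hB : ∀ r : R, r • e = 0 → ∀ b : B, r • b = 0)
    (f : A →ₗ[R] B) (hf : Function.Injective f) : Function.Injective (f.lTensor M) := by
  have hsurj : ∀ z : M ⊗[R] A, ∃ a, z = e ⊗ₜ[R] a := fun z => by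
    induction z using TensorProduct.induction_on with
    | zero => exact ⟨0, (tmul_zero _ _).symm⟩
    | tmul m a =>
      obtain ⟨r, rfl⟩ := he m
      exact ⟨r • a, by rw [smul_tmul]⟩
    | add a b ha hb =>
      obtain ⟨a', rfl⟩ := ha
      obtain ⟨b', rfl⟩ := hb
      exact ⟨a' + b', (tmul_add _ _ _).symm⟩
  let s : R →ₗ[R] M := LinearMap.toSpanSingleton R M e
  let E := LinearMap.quotKerEquivOfSurjective s he
  let g : (R ⧸ LinearMap.ker s) →ₗ[R] B →ₗ[R] B :=
    (LinearMap.ker s).liftQ (LinearMap.lsmul R B) fun r hr => LinearMap.mem_ker.2 (LinearMap.ext fun b => hB r hr b)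
  let β := TensorProduct.lift (g.comp E.symm.toLinearMap)
  have hβ : ∀ b : B, β (e ⊗ₜ[R] b) = b := fun b => by
    have h1 : E.symm e = Submodule.Quotient.mk 1 := by
      rw [LinearEquiv.symm_apply_eq]
      exact (one_smul R e).symm
    show g (E.symm e) b = b
    rw [h1]
    exact one_smul R b
  refine (injective_iff_map_eq_zero _).2 fun z hz => ?_
  obtain ⟨a, rfl⟩ := hsurj z
  rw [LinearMap.lTensor_tmul] at hz
  have h2 := congrArg β hz
  rw [hβ, map_zero] at h2
  rw [hf (h2.trans (map_zero f).symm), tmul_zero]

variable {X Y : Scheme.{u}} (f : X ⟶ Y) [IsClosedImmersion f]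

/-- Tensoring with a line bundle on a closed subscheme is exact on modules of that subscheme. -/
theorem mono_tensor {N : X.Modules} (hN : PicF.IsInvertible N) {A B : Y.Modules} (g : A ⟶ B) [Mono g]
    {B₀ : X.Modules} (eB : B ≅ (Scheme.Modules.pushforward f).obj B₀) :
    Mono (((DCoh.tensorBi (X := Y)).obj ((Scheme.Modules.pushforward f).obj N)).map g) := by
  set M := (Scheme.Modules.pushforward f).obj N
  rw [Groth.L21.Mod.mono_iff_stalk_injective]
  intro p
  have hg : Function.Injective ((Groth.L00.Stk.F Y p).map g).hom :=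
    (Groth.L21.Mod.mono_iff_stalk_injective g).1 inferInstance p
  have key : Function.Injective (((Groth.L00.Stk.F Y p).map g).hom.lTensor ((Groth.L00.Stk.F Y p).obj M)) := by
    by_cases hp : p ∈ Set.range f
    · obtain ⟨x, rfl⟩ := hp
      obtain ⟨e₀, he₀⟩ := Groth.L21.RR.exists_frame_stalk hN x
      obtain ⟨e, he⟩ := (c₀_bijective f N x).2 e₀
      refine lTensor_injective_of_cyclic (M := (Groth.L00.Stk.F Y (f x)).obj M) e (fun m => ?_) (fun r hr b => ?_) _ hg
      · obtain ⟨c, hc⟩ := he₀.2 (c₀ f N x m)
        obtain ⟨r, rfl⟩ := φ_surjective f x c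
        refine ⟨r, (c₀_bijective f N x).1 ?_⟩
        rw [c₀_smul, he]
        exact hc
      · have hr0 : (φ f x r : X.presheaf.stalk x) = 0 := by
          refine he₀.1 ?_
          show (φ f x r : X.presheaf.stalk x) • e₀ = (0 : X.presheaf.stalk x) • e₀
          rw [← he, ← c₀_smul]
          refine (congrArg (c₀ f N x) hr).trans ?_
          rw [map_zero, zero_smul]
        have hb : Function.Injective ((Groth.L00.Stk.F Y (f x)).map eB.hom).hom :=
          (ConcreteCategory.bijective_of_isIso ((Groth.L00.Stk.F Y (f x)).map eB.hom)).1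
        refine hb ((c₀_bijective f B₀ x).1 ?_)
        rw [map_smul, map_zero]
        refine (c₀_smul f B₀ x r _).trans ?_
        rw [hr0, zero_smul, map_zero]
    · haveI : Subsingleton ((Groth.L00.Stk.F Y p).obj M) := subsingleton_stalk_push f N hp
      intro a b _
      suffices h : ∀ z : (Groth.L00.Stk.F Y p).obj M ⊗[Y.presheaf.stalk p] (Groth.L00.Stk.F Y p).obj A, z = 0 by
        rw [h a, h b]
      intro z
      induction z using TensorProduct.induction_on with
      | zero => rfl
      | tmul m c =>
        rw [show m = 0 from Subsingleton.elim _ _]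
        exact zero_tmul _ _
      | add a b ha hb => rw [ha, hb, add_zero]
  have hτ := Groth.L00.Stk.τ_natural p (𝟙 M) g
  have e1 : ((DCoh.tensorBi (X := Y)).obj M).map g = Groth.L00.Tensor.tensorMap (𝟙 M) g := by
    refine congrArg (Groth.L00.Tensor.shf Y).map ?_
    rw [CategoryTheory.Functor.map_id]
    exact (MonoidalCategory.id_tensorHom _ _).symm
  rw [e1]
  have hbij : Function.Bijective (Groth.L00.Stk.τ p M A).hom := ConcreteCategory.bijective_of_isIso _
  have hbij' : Function.Bijective (Groth.L00.Stk.τ p M B).hom := ConcreteCategory.bijective_of_isIso _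
  intro a b hab
  obtain ⟨a', rfl⟩ := hbij.2 a
  obtain ⟨b', rfl⟩ := hbij.2 b
  refine congrArg _ (key ?_)
  apply hbij'.1
  have h3 : ∀ z, (Groth.L00.Stk.τ p M B).hom (((Groth.L00.Stk.F Y p).map g).hom.lTensor _ z) =
      (Groth.L00.Stk.F Y p).map (Groth.L00.Tensor.tensorMap (𝟙 M) g) ((Groth.L00.Stk.τ p M A).hom z) := fun z => by
    refine Eq.trans ?_ (ConcreteCategory.congr_hom hτ z)
    rw [CategoryTheory.Functor.map_id]
    rfl
  exact ((h3 a').trans hab).trans (h3 b').symm

/-- The projection formula against the structure sheaf of a closed subscheme. -/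
def tensorPushIso (M : Y.Modules) :
    CohB1.tensorMod M ((Scheme.Modules.pushforward f).obj (Coh.structureModule X)) ≅
      (Scheme.Modules.pushforward f).obj ((Scheme.Modules.pullback f).obj M) :=
  (haveI := isIso_θ f (Coh.structureModule X) M; asIso (θ f (Coh.structureModule X) M)) ≪≫
    (Scheme.Modules.pushforward f).mapIso (Groth.L00.Tensor.tensorUnitRight _)

/-- The structure sheaf of a closed subscheme is the quotient by its ideal. -/
theorem nonempty_push_iso_quot :
    Nonempty ((Scheme.Modules.pushforward f).obj (Coh.structureModule X) ≅ ClSub.quotMod f.ker) := by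
  obtain ⟨u⟩ := Groth.L03.BlowPt.nonempty_push_structure f.toImage
  exact ⟨(Scheme.Modules.pushforwardCongr (Scheme.Hom.toImage_imageι f).symm).app _ ≪≫
    ((Scheme.Modules.pushforwardComp f.toImage f.ker.subschemeι).app _).symm ≪≫
    (Scheme.Modules.pushforward f.ker.subschemeι).mapIso u⟩

end Groth.L03.SurfFib.PushTensor
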