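import Groth.Agent.L03.Ruled.Fibre
import Groth.Agent.L03.SurfFib.PushTensor
import Groth.Agent.L14.LocHilb.Lift.Obs.Transport

/-!
# Cohomology of a closed fibre computed on the total space
-/

set_option autoImplicit false
set_option backward.isDefEq.respectTransparency false
set_option linter.style.haveILetI false
universe u

open CategoryTheory CategoryTheory.Limits AlgebraicGeometry
open Groth.L00.Tensor (tensorIso)

noncomputable section

namespace Groth.L03.SurfFib.Zariski

variable (k : Type u) [Field k] {X : Scheme.{u}} [X.Over (Spec (CommRingCat.of k))]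
  [IsProper (X ↘ Spec (CommRingCat.of k))] {B : Scheme.{u}} (f : X ⟶ B)

include k in
/-- Cohomology of a closed fibre in terms of the total space. -/
theorem subsingleton_fiberH_iff {p : B} (hp : IsClosed ({p} : Set B)) {L : X.Modules} (hL : PicF.IsInvertible L) (n : ℕ) :
    Subsingleton (CohIII.fiberH f L p n) ↔
      Subsingleton (Coh.HH X (CohB1.tensorMod L (ClSub.quotMod (f.fiberι p).ker)) n) := by
  haveI : X.IsSeparated := ⟨by rw [← terminal.comp_from (X ↘ Spec (CommRingCat.of k))]; infer_instance⟩
  haveI : IsClosedImmersion (B.fromSpecResidueField p) := isClosed_singleton_iff_isClosedImmersion.mp hp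
  haveI : IsClosedImmersion (f.fiberι p) :=
    inferInstanceAs (IsClosedImmersion (pullback.fst f (B.fromSpecResidueField p)))
  letI oF : (f.fiber p).Over (Spec (CommRingCat.of k)) := ⟨f.fiberι p ≫ (X ↘ Spec (CommRingCat.of k))⟩
  obtain ⟨ep⟩ := Groth.L03.SurfFib.PushTensor.nonempty_push_iso_quot (f.fiberι p)
  let e : CohB1.tensorMod L (ClSub.quotMod (f.fiberι p).ker) ≅
      (Scheme.Modules.pushforward (f.fiberι p)).obj ((Scheme.Modules.pullback (f.fiberι p)).obj L) :=
    tensorIso (Iso.refl L) ep.symm ≪≫ Groth.L03.SurfFib.PushTensor.tensorPushIso (f.fiberι p) L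
  obtain ⟨g⟩ := Groth.L14.LocHilbLift.nonempty_HH_pushEquiv (k := k) (f.fiberι p) rfl
    ((Scheme.Modules.pullback (f.fiberι p)).obj L) n
  exact ((Groth.L03.SurfAdj.hhEquiv k e n).trans g).symm.toEquiv.subsingleton_congr

include k in
/-- The fibre rank at a closed point is computed on the total space. -/
theorem fiberRank_eq [IsAlgClosed k] [B.Over (Spec (CommRingCat.of k))] [IsProper (B ↘ Spec (CommRingCat.of k))]
    [f.IsOver (Spec (CommRingCat.of k))] {p : B} (hp : IsClosed ({p} : Set B)) {L : X.Modules}
    (hL : PicF.IsInvertible L) (n : ℕ) :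
    CohIII.fiberRank f L n p = Module.finrank k (Coh.HH X (CohB1.tensorMod L (ClSub.quotMod (f.fiberι p).ker)) n) := by
  haveI : IsClosedImmersion (B.fromSpecResidueField p) := isClosed_singleton_iff_isClosedImmersion.mp hp
  haveI : IsClosedImmersion (f.fiberι p) :=
    inferInstanceAs (IsClosedImmersion (pullback.fst f (B.fromSpecResidueField p)))
  letI oF : (f.fiber p).Over (Spec (CommRingCat.of k)) := ⟨f.fiberι p ≫ (X ↘ Spec (CommRingCat.of k))⟩
  obtain ⟨ep⟩ := Groth.L03.SurfFib.PushTensor.nonempty_push_iso_quot (f.fiberι p)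
  let e : CohB1.tensorMod L (ClSub.quotMod (f.fiberι p).ker) ≅
      (Scheme.Modules.pushforward (f.fiberι p)).obj ((Scheme.Modules.pullback (f.fiberι p)).obj L) :=
    tensorIso (Iso.refl L) ep.symm ≪≫ Groth.L03.SurfFib.PushTensor.tensorPushIso (f.fiberι p) L
  obtain ⟨g⟩ := Groth.L14.LocHilbLift.nonempty_HH_pushEquiv (k := k) (f.fiberι p) rfl
    ((Scheme.Modules.pullback (f.fiberι p)).obj L) n
  refine Eq.trans ?_ ((Groth.L03.SurfAdj.hhEquiv k e n).trans g).finrank_eq.symm
  letI : Algebra k (B.residueField p) := Curv2.resAlgebra k B p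
  haveI : Module.Finite k (B.residueField p) := Groth.L21.Disc.finite_residueField_of_isClosed k hp
  have hb : Function.Bijective (algebraMap k (B.residueField p)) :=
    IsAlgClosed.algebraMap_bijective_of_isIntegral
  refine (Groth.L03.Ruled.finrank_eq_of_bijective (algebraMap k (B.residueField p)) hb fun c m => ?_).symm
  show Coh.toGlobal (f.fiber p ↘ Spec (CommRingCat.of k)) c • m =
    Coh.toGlobal (f.fiberToSpecResidueField p) (algebraMap k (B.residueField p) c) • m
  refine congrArg (fun r : Coh.Γtop (f.fiber p) => r • m) ?_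
  show (f.fiberι p ≫ (X ↘ Spec (CommRingCat.of k))).appTop ((Scheme.ΓSpecIso (CommRingCat.of k)).inv c) =
    (f.fiberToSpecResidueField p).appTop ((Scheme.ΓSpecIso (B.residueField p)).inv (algebraMap k (B.residueField p) c))
  have h1 : f.fiberι p ≫ (X ↘ Spec (CommRingCat.of k)) =
      f.fiberToSpecResidueField p ≫ Spec.map (CommRingCat.ofHom (algebraMap k (B.residueField p))) := by
    rw [RingHom.algebraMap_toAlgebra, Groth.L22.FibreDim.SpecMap_resMap k B p, ← comp_over f (Spec (CommRingCat.of k)),
      ← Category.assoc, f.fiber_fac p, Category.assoc]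
  rw [h1, Scheme.Hom.comp_appTop, CommRingCat.comp_apply]
  congr 1
  exact congrArg (fun ψ => ψ.hom c)
    (Scheme.ΓSpecIso_inv_naturality (CommRingCat.ofHom (algebraMap k (B.residueField p)))).symm

end Groth.L03.SurfFib.Zariski
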