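import Groth.Agent.L03.SurfNum.Fibre
import Groth.Agent.L03.SurfNum.Decomp
import Groth.Agent.L03.SurfAmple.Config
import Groth.Agent.L03.SurfAdj.Tools
import Groth.Agent.L22.Nef.NumTriv
import Groth.Agent.L21.Duality.Deg
import Groth.Agent.L03.BlowPt.PtDeg

/-!
# Numerical classes of the pullbacks from the base, and vertical divisors
-/

set_option autoImplicit false
set_option linter.style.haveILetI false
set_option linter.unusedSectionVars false
set_option backward.isDefEq.respectTransparency false

universe u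

open CategoryTheory CategoryTheory.Limits AlgebraicGeometry TopologicalSpace
open Groth.L22 Groth.L22.Inter Groth.L22.Nef Groth.L22.Big Groth.L03.SurfNum
open Groth.L00.Tensor (tensorIso tensorComm tensorUnitLeft)

noncomputable section

namespace Groth.L03.SurfFib

variable {k : Type u} [Field k] [IsAlgClosed k] {X : Scheme.{u}} [X.Over (Spec (CommRingCat.of k))]
  [IsProper (X ↘ Spec (CommRingCat.of k))] [IsIntegral X] (hd : topologicalKrullDim X = (2 : ℕ))
  {C : Scheme.{u}} [C.Over (Spec (CommRingCat.of k))] [IsProper (C ↘ Spec (CommRingCat.of k))]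
  [Smooth (C ↘ Spec (CommRingCat.of k))] [IsIntegral C] (hdimC : topologicalKrullDim C = 1)
  (π : X ⟶ C) [π.IsOver (Spec (CommRingCat.of k))] [Surjective π]

include hdimC in
omit [IsAlgClosed k] in
/-- A module of degree zero on an integral curve is nef. -/
theorem isNef_of_deg_zero {Z : C.Modules} (hZ : PicF.IsInvertible Z) (h : Curv2.deg k C Z 1 = 0) : IsNef k Z := by
  haveI := Groth.L21.RR.isNoetherian_of_proper (X := C) k
  refine ⟨hZ, fun y hy => le_of_eq ?_⟩
  have hy' : y = genericPoint C := by
    by_contra hne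
    have hc : IsClosed ({y} : Set C) := by
      refine isClosed_of_closure_subset fun w hw => ?_
      rcases Groth.L21.RR.Top.spec_of_dim_le_one (X := C.toTopCat) hdimC.le (genericPoint C) y w
        ((genericPoint_spec C).specializes trivial) (specializes_iff_mem_closure.2 hw) with e | e
      · exact absurd e.symm hne
      · exact e.symm
    rw [hc.closure_eq] at hy
    have h0 : topologicalKrullDim ({y} : Set C) ≤ 0 := topologicalKrullDim_zero_of_discreteTopology _
    rw [hy] at h0
    norm_num at h0
  subst hy'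
  rw [altT_integral k (r := 1) (hdimC.trans Nat.cast_one.symm) (L := fun _ => Z) fun _ => hZ, altT_one,
    Groth.L03.Euler.euler_iso (tensorUnitLeft Z)]
  have h' : Curv2.euler k C Z - Curv2.euler k C (Coh.structureModule C) = 0 := by
    rw [Curv2.deg] at h
    simpa using h
  rw [h']
  simp

variable {q : C} (hq : IsClosed ({q} : Set C))

include hdimC hq in
/-- The ideal of a point has degree minus one. -/
theorem deg_point : PicF.IsInvertible (ClSub.idealMod (C.fromSpecResidueField q).ker) ∧
    Curv2.deg k C (ClSub.idealMod (C.fromSpecResidueField q).ker) 1 = -1 := by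
  haveI := Groth.L21.RR.isNoetherian_of_proper (X := C) k
  haveI : IsClosedImmersion (C.fromSpecResidueField q) := isClosed_singleton_iff_isClosedImmersion.mp hq
  have hker : (C.fromSpecResidueField q).ker = Scheme.IdealSheafData.vanishingIdeal ⟨{q}, hq⟩ := by
    rw [Groth.L23.SchKer.ker_eq_vanishingIdeal]
    congr 1
    refine TopologicalSpace.Closeds.ext ?_
    show closure (Set.range (C.fromSpecResidueField q)) = {q}
    rw [Scheme.range_fromSpecResidueField, hq.closure_eq]
  have hI : PicF.IsInvertible (ClSub.idealMod (C.fromSpecResidueField q).ker) := by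
    haveI : IsIntegral (C.fromSpecResidueField q).ker.subscheme := by
      haveI : Nonempty (C.fromSpecResidueField q).ker.subscheme :=
        ⟨(C.fromSpecResidueField q).toImage (genericPoint (Spec (C.residueField q)))⟩
      exact isIntegral_of_isOpenImmersion (inv (C.fromSpecResidueField q).toImage)
    obtain ⟨-, h, -, -⟩ := Groth.L03.SurfNum.fibre_ideal (S := C) k hdimC (𝟙 C) hq
    exact h
  refine ⟨hI, ?_⟩
  have h5 := Groth.L03.SurfAdj.euler_quotMod k _ hI
  have h6 : Curv2.euler k C (ClSub.quotMod (C.fromSpecResidueField q).ker) = 1 := by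
    rw [hker]; exact Groth.L03.BlowPt.ptDeg_eq_one hq k
  rw [Curv2.deg]
  push_cast
  linarith

include hd hdimC hq in
/-- Pullbacks from the base are numerically multiples of a fibre. -/
theorem ii_pullback_base {M : C.Modules} (hM : PicF.IsInvertible M) {Z : X.Modules} (hZ : PicF.IsInvertible Z) :
    ii k ((Scheme.Modules.pullback π).obj M) Z = -(Curv2.deg k C M 1 : ℚ) *
      ii k ((Scheme.Modules.pullback π).obj (ClSub.idealMod (C.fromSpecResidueField q).ker)) Z := by
  haveI := Groth.L21.RR.isNoetherian_of_proper (X := X) k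
  haveI := Groth.L21.RR.isNoetherian_of_proper (X := C) k
  have hd2 := hd.le
  have hπk : π ≫ (C ↘ Spec (CommRingCat.of k)) = X ↘ Spec (CommRingCat.of k) := comp_over π _
  obtain ⟨hI, hIdeg⟩ := deg_point (k := k) hdimC hq
  set I := ClSub.idealMod (C.fromSpecResidueField q).ker
  let P := fun A : C.Modules => (Scheme.Modules.pullback π).obj A
  have hP : ∀ {A : C.Modules}, PicF.IsInvertible A → PicF.IsInvertible (P A) := fun hA =>
    Groth.L18.Ample.isInvertible_pullback π hA
  have hadd : ∀ {A B : C.Modules}, PicF.IsInvertible A → PicF.IsInvertible B →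
      ii k (P (CohB1.tensorMod A B)) Z = ii k (P A) Z + ii k (P B) Z := fun {A B} hA hB => by
    rw [← ii_congr k (Groth.L29.DC.PullTensor.pullTensor π A B), ii_tensor k hd2 (hP hA) (hP hB) hZ]
  have hzero : ∀ {A : C.Modules}, PicF.IsInvertible A → Curv2.deg k C A 1 = 0 → ii k (P A) Z = 0 := by
    intro A hA h0
    obtain ⟨B, hB, ⟨e⟩⟩ := Groth.L08.Cube.exists_inverse hA
    have hdB : Curv2.deg k C B 1 = 0 := by
      have h := Groth.L21.Duality.deg_tensor (k := k) hdimC hA hB
      rw [h0, Curv2.deg, Groth.L03.Euler.euler_iso e, zero_add] at h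
      rw [← h]
      simp
    have h := altT_zero_of_numTriv_proper (k := k) ((isNef_of_deg_zero hdimC hA h0).pullback' π hπk)
      ((isNef_of_deg_zero hdimC hB hdB).pullback' π hπk)
      (Groth.L29.DC.PullTensor.pullTensor π A B ≪≫ (Scheme.Modules.pullback π).mapIso e ≪≫
        Groth.L29.LocFree.pullbackUnitIso π) (L := ![Coh.structureModule X, Z])
      (fun i => by fin_cases i; exacts [Groth.L18.Ample.isInvertible_structureModule X, hZ]) 0
      (Groth.L16.CohClosedPush.isCoh_structure (X := X)) (by rw [Groth.L22.Nakai.dim_support_structure, hd])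
    rw [← ii_vec]
    refine Eq.trans ?_ h
    exact congrArg (fun F => altT k F (Coh.structureModule X)) (funext fun i => by fin_cases i <;> simp [P])
  have hpow : ∀ {A : C.Modules}, PicF.IsInvertible A → ∀ n : ℕ,
      ii k (P (CohB1.tensorPow A n)) Z = n * ii k (P A) Z ∧
        Curv2.deg k C (CohB1.tensorPow A n) 1 = n * Curv2.deg k C A 1 := by
    intro A hA n
    induction n with
    | zero =>
      refine ⟨?_, ?_⟩
      · rw [Nat.cast_zero, zero_mul]
        refine hzero (Groth.L18.Ample.isInvertible_structureModule C) ?_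
        show Curv2.deg k C (Coh.structureModule C) 1 = 0
        rw [Curv2.deg]; simp
      · show Curv2.deg k C (Coh.structureModule C) 1 = _
        rw [Curv2.deg]; simp
    | succ n ih =>
      have hAn := Groth.L18.Ample.isInvertible_tensorPow hA n
      refine ⟨?_, ?_⟩
      · show ii k (P (CohB1.tensorMod (CohB1.tensorPow A n) A)) Z = _
        rw [hadd hAn hA, ih.1]; push_cast; ring
      · show Curv2.deg k C (CohB1.tensorMod (CohB1.tensorPow A n) A) 1 = _
        rw [Groth.L21.Duality.deg_tensor (k := k) hdimC hAn hA, ih.2]; push_cast; ring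
  have key : ∀ {A : C.Modules}, PicF.IsInvertible A → ∀ n : ℕ, Curv2.deg k C A 1 = n →
      ii k (P A) Z = -(n : ℚ) * ii k (P I) Z := by
    intro A hA n hn
    have hIn := Groth.L18.Ample.isInvertible_tensorPow hI n
    have h := hzero (Groth.L18.GenLoc.isInvertible_tensor hA hIn) (by
      rw [Groth.L21.Duality.deg_tensor (k := k) hdimC hA hIn, (hpow hI n).2, hn, hIdeg]; ring)
    rw [hadd hA hIn, (hpow hI n).1] at h
    linarith
  rcases Int.eq_nat_or_neg (Curv2.deg k C M 1) with ⟨n, hn | hn⟩
  · rw [key hM n hn, hn]; push_cast; ring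
  · obtain ⟨B, hB, ⟨e⟩⟩ := Groth.L08.Cube.exists_inverse hM
    have hdB : Curv2.deg k C B 1 = n := by
      have h := Groth.L21.Duality.deg_tensor (k := k) hdimC hM hB
      rw [hn, Curv2.deg, Groth.L03.Euler.euler_iso e] at h
      push_cast at h
      linarith
    have h := key hB n hdB
    have h0 := hzero (Groth.L18.GenLoc.isInvertible_tensor hM hB) (by
      rw [Curv2.deg, Groth.L03.Euler.euler_iso e]; simp)
    rw [hadd hM hB, h] at h0
    rw [hn]; push_cast
    show ii k (P M) Z = - -(n : ℚ) * ii k (P I) Z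
    linarith

variable (hfib : ∀ y : C, IsClosed ({y} : Set C) → ∃ z : X, topologicalKrullDim (closure ({z} : Set X)) = (1 : ℕ) ∧
  (π.fiberι y).ker = pt z)

include hd hdimC hq hfib in
/-- An effective module of degree zero on integral fibres is numerically a multiple of a fibre. -/
theorem ii_eq_of_vertical {E : X.Modules} (hE : PicF.IsInvertible E) (hs : Nontrivial (Coh.HH X E 0))
    (hE0 : ∀ y : C, IsClosed ({y} : Set C) → ii k E (ClSub.idealMod (π.fiberι y).ker) = 0) :
    ∃ c : ℕ, ∀ Z : X.Modules, PicF.IsInvertible Z → ii k E Z =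
      -(c : ℚ) * ii k ((Scheme.Modules.pullback π).obj (ClSub.idealMod (C.fromSpecResidueField q).ker)) Z := by
  classical
  haveI := Groth.L21.RR.isNoetherian_of_proper (X := X) k
  haveI : IsProper π := by
    haveI : IsProper (π ≫ (C ↘ Spec (CommRingCat.of k))) := by rw [comp_over]; infer_instance
    exact IsProper.of_comp π (C ↘ Spec (CommRingCat.of k))
  have hd2 := hd.le
  obtain ⟨s, hs⟩ := Groth.L21.RR.exists_hom_ne_zero (L := E)
  obtain ⟨T, m, hT, -, hsum⟩ := exists_sum_curves k hd2 hE s
    (Groth.L22.CurveAmple.genericPoint_mem_genLocus hE hs)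
  have hvert : ∀ y ∈ T, m y ≠ 0 → ∃ p : C, IsClosed ({p} : Set C) ∧ (π.fiberι p).ker = pt y := by
    intro y hy hm
    have hy1 := (hT y hy).1
    obtain ⟨x, hx, hxy⟩ := Groth.L21.RR.exists_closed_specialization y
    have hp : IsClosed ({π x} : Set C) := by
      rw [← Set.image_singleton]
      exact π.isClosedMap _ hx
    refine ⟨π x, hp, ?_⟩
    obtain ⟨z, hz, hzp⟩ := hfib (π x) hp
    obtain ⟨hIy, -, hsupp, -⟩ := Groth.L03.SurfNum.fibre_ideal k hdimC π hp
    have hsame : ∀ w : X, w ∈ ((π.fiberι (π x)).ker.support : Set X) →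
        topologicalKrullDim (closure ({w} : Set X)) = (1 : ℕ) → z = w := fun w hw hw1 => by
      rw [hzp, Groth.L18.support_vanishingIdeal] at hw
      exact eq_of_specializes_top isClosed_closure hz.le hw1 (subset_closure rfl)
        (specializes_iff_mem_closure.2 hw)
    by_cases hyJ : y ∈ ((π.fiberι (π x)).ker.support : Set X)
    · rw [hzp, hsame y hyJ hy1]
    exfalso
    set J := (π.fiberι (π x)).ker
    haveI : IsIntegral J.subscheme := by rw [hzp]; exact isIntegral_pt z
    have hdJ : topologicalKrullDim (J.support : Set X) = 1 := by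
      rw [hzp, Groth.L18.support_vanishingIdeal]; exact hz.trans Nat.cast_one
    obtain ⟨M, sM, hM, ⟨eM⟩, hloc⟩ := Groth.L08.Cube.exists_section_of_effCartier J
      ((Groth.Agent.L19.IdealInvertible.isEffCartier_iff J).1 hIy)
    have hmem : ∀ w : X, w ∉ (J.support : Set X) → w ∈ CohB1.genLocus M sM := fun w hw => by
      show w ∈ (CohB1.genLocus M sM : Set X)
      rw [hloc]; exact hw
    have hxJ : x ∉ CohB1.genLocus M sM := fun hh => by
      have hh' : x ∈ (CohB1.genLocus M sM : Set X) := hh
      rw [hloc] at hh'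
      exact hh' (hsupp.ge rfl)
    have hposy := Groth.L03.SurfAmple.altT_pt_pos k hd hM sM hy1 (hmem y hyJ)
      (specializes_iff_mem_closure.1 hxy) hxJ
    have hnn : ∀ w ∈ T, 0 ≤ (m w : ℚ) * altT k (fun _ : Fin 1 => M) (ClSub.quotMod (pt w)) := fun w hw => by
      refine mul_nonneg (Nat.cast_nonneg _) ?_
      by_cases hwJ : w ∈ (J.support : Set X)
      · rw [← hsame w hwJ (hT w hw).1, ← hzp]
        exact (Groth.L03.SurfNum.fibre_deg_zero k hdimC π hp (LF := M) ⟨tensorComm _ _ ≪≫ eM⟩ J hdJ hsupp.le).ge
      · exact altT_pt_nonneg k hd2 hM sM (hmem w hwJ) (hT w hw).1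
    have hzero : ii k E M = 0 := by
      rw [ii_comm, Gram.ii_inverse k hd2 hIy hM hE eM, ii_comm, hE0 (π x) hp, neg_zero]
    rw [hsum M hM] at hzero
    rcases mul_eq_zero.1 ((Finset.sum_eq_zero_iff_of_nonneg hnn).1 hzero y hy) with h | h
    · exact hm (Nat.cast_eq_zero.1 h)
    · linarith
  refine ⟨∑ y ∈ T, m y, fun Z hZ => ?_⟩
  rw [hsum Z hZ, Nat.cast_sum, ← Finset.sum_neg_distrib, Finset.sum_mul]
  refine Finset.sum_congr rfl fun y hy => ?_
  rcases eq_or_ne (m y) 0 with h0 | h0
  · rw [h0]; simp
  obtain ⟨p, hp, hpy⟩ := hvert y hy h0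
  obtain ⟨hIp, hIpC, -, ⟨α⟩⟩ := Groth.L03.SurfNum.fibre_ideal k hdimC π hp
  rw [← hpy, altT_quotMod_eq k hZ _ hIp, ← ii_congr k α, ii_pullback_base hd hdimC π hq hIpC hZ,
    (deg_point (k := k) hdimC hp).2]
  push_cast
  ring

end Groth.L03.SurfFib
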