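import Groth.Agent.L03.SurfFib.Zariski
import Groth.Agent.L03.SurfFib.PullDeg
import Groth.Agent.L03.BlowPt.Rational
import Groth.Agent.L03.SurfAdj.Canonical
import Groth.Agent.S14512
import Groth.Agent.L08.Cube.SmoothStalk

/-!
# Vanishing of `H¹` on the fibres of a fibration of a surface
-/

set_option autoImplicit false
set_option backward.isDefEq.respectTransparency false
set_option linter.style.haveILetI false
set_option linter.unusedSectionVars false
universe u

open CategoryTheory CategoryTheory.Limits AlgebraicGeometry TopologicalSpace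
open Groth.L22 Groth.L22.Inter Groth.L22.Nef Groth.L22.Big Groth.L03.Euler Groth.L03.SurfNum Groth.L03.SurfAdj
open Groth.L03.BlowPt (degOn)
open Groth.L03.BlowPt.Ramanujam (prodPt prodPt_cons isEffCartier_pt isEffCartier_prodPt dim_support_pt)
open Groth.L00.Tensor (tensorComm tensorUnitLeft)

noncomputable section

namespace Groth.L03.SurfFib.FibreH1

variable (k : Type u) [Field k] [IsAlgClosed k] {X : Scheme.{u}} [X.Over (Spec (CommRingCat.of k))]
  [IsProper (X ↘ Spec (CommRingCat.of k))] [IsIntegral X] [Smooth (X ↘ Spec (CommRingCat.of k))]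
  (hdim : topologicalKrullDim X = 2)

include hdim

theorem dim2 : topologicalKrullDim X = (2 : ℕ) := hdim.trans Nat.cast_ofNat.symm

/-- Degree above `2g - 2` on a curve kills `H¹`. -/
theorem subsingleton_h1_curve {y : X} (hy : topologicalKrullDim (closure ({y} : Set X)) = (1 : ℕ))
    {L : X.Modules} (hL : PicF.IsInvertible L)
    (hdeg : -2 * Curv2.euler k X (ClSub.quotMod (pt y)) < degOn k (pt y) L) :
    Subsingleton (Coh.HH X (CohB1.tensorMod L (ClSub.quotMod (pt y))) 1) := by
  haveI := isIntegral_pt y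
  have hyd := dim_support_pt k (dim2 hdim) (reg_of_smooth k) hy
  letI : (pt y).subscheme.Over (Spec (CommRingCat.of k)) := ⟨(pt y).subschemeι ≫ (X ↘ (Spec (CommRingCat.of k)))⟩
  haveI : IsProper ((pt y).subscheme ↘ Spec (CommRingCat.of k)) :=
    inferInstanceAs (IsProper ((pt y).subschemeι ≫ (X ↘ Spec (CommRingCat.of k))))
  haveI := Groth.L21.RR.isNoetherian_of_proper (X := (pt y).subscheme) k
  have hdC : topologicalKrullDim (pt y).subscheme ≤ 1 := by
    rw [← dim_closure_image (pt y).subschemeι, ← dim_support (pt y), hyd]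
  have hN := Groth.L18.Ample.isInvertible_pullback (pt y).subschemeι hL
  have h0 : Groth.L21.RR.h k 0 (Coh.structureModule (pt y).subscheme) = 1 := Groth.L22.CurveDeg.h0_structure_eq_one k
  have hχ : Curv2.euler k X (ClSub.quotMod (pt y)) =
      1 - (Groth.L21.RR.h k 1 (Coh.structureModule (pt y).subscheme) : ℤ) := by
    rw [euler_subscheme k (pt y), Groth.L21.RR.euler_eq k hdC, h0]
    rfl
  have hd : degOn k (pt y) L = Curv2.deg k (pt y).subscheme ((Scheme.Modules.pullback (pt y).subschemeι).obj L) 1 := by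
    have h1 : Curv2.euler k X (CohB1.tensorMod (ClSub.quotMod (pt y)) L) =
        Curv2.euler k (pt y).subscheme ((Scheme.Modules.pullback (pt y).subschemeι).obj L) := by
      rw [euler_iso (tensorComm _ L)]
      refine finsum_congr fun p => ?_
      obtain ⟨q⟩ := nonempty_twistQuot_equiv k (pt y) hL p
      exact congrArg (fun z : ℕ => (-1 : ℤ) ^ p * (z : ℤ)) q.finrank_eq
    rw [degOn, h1, euler_subscheme k (pt y), Curv2.deg, Nat.cast_one, one_mul]
  obtain ⟨q⟩ := nonempty_twistQuot_equiv k (pt y) hL 1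
  haveI := Groth.L21.RR.subsingleton_h1_of_deg_gt k hdC h0 hN (by rw [← hd]; rw [hχ] at hdeg; linarith)
  exact q.toEquiv.subsingleton

/-- A curve of genus zero is regular. -/
theorem regular_of_euler_one {y : X} (hy : topologicalKrullDim (closure ({y} : Set X)) = (1 : ℕ))
    (hχ : Curv2.euler k X (ClSub.quotMod (pt y)) = 1) (z : (pt y).subscheme) :
    IsRegularLocalRing ((pt y).subscheme.presheaf.stalk z) := by
  haveI := isIntegral_pt y
  have hyd := dim_support_pt k (dim2 hdim) (reg_of_smooth k) hy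
  letI : (pt y).subscheme.Over (Spec (CommRingCat.of k)) := ⟨(pt y).subschemeι ≫ (X ↘ (Spec (CommRingCat.of k)))⟩
  haveI : IsProper ((pt y).subscheme ↘ Spec (CommRingCat.of k)) :=
    inferInstanceAs (IsProper ((pt y).subschemeι ≫ (X ↘ Spec (CommRingCat.of k))))
  haveI := (curve_euler k (pt y) hyd).2.1 hχ
  have hdC : topologicalKrullDim (pt y).subscheme = 1 := by
    rw [← dim_closure_image (pt y).subschemeι, ← dim_support (pt y), hyd]
  haveI := Groth.Agent.S14512.result k (pt y).subscheme hdC (Module.finrank_zero_of_subsingleton)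
  exact Groth.L08.Cube.isRegularLocalRing_of_smooth ((pt y).subscheme ↘ Spec (CommRingCat.of k)) z

variable {B : Scheme.{u}} [B.Over (Spec (CommRingCat.of k))] [IsProper (B ↘ Spec (CommRingCat.of k))]
  [Smooth (B ↘ Spec (CommRingCat.of k))] [IsIntegral B]
  (hdB : topologicalKrullDim B = 1)
  (f : X ⟶ B) [f.IsOver (Spec (CommRingCat.of k))] [Surjective f]

include hdB

/-- Fibres have square zero and all have the same degree against any module. -/
theorem ii_fibre_eq {p q : B} (hp : IsClosed ({p} : Set B)) (hq : IsClosed ({q} : Set B)) {Z : X.Modules}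
    (hZ : PicF.IsInvertible Z) :
    ii k (ClSub.idealMod (f.fiberι p).ker) Z = ii k (ClSub.idealMod (f.fiberι q).ker) Z := by
  obtain ⟨-, hIp, -, ⟨α⟩⟩ := Groth.L03.SurfNum.fibre_ideal k hdB f hp
  obtain ⟨-, -, -, ⟨β⟩⟩ := Groth.L03.SurfNum.fibre_ideal k hdB f hq
  obtain ⟨-, hdeg⟩ := Groth.L03.SurfFib.deg_point (k := k) hdB hp
  rw [← ii_congr k α Z, ← ii_congr k β Z, Groth.L03.SurfFib.ii_pullback_base (k := k) (dim2 hdim) hdB f hq hIp hZ, hdeg]
  push_cast
  ring

/-- A relatively minimal fibration: the canonical degree of a vertical curve is nonnegative. -/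
theorem canonical_nonneg (hmin : ∀ (y : X), topologicalKrullDim (closure ({y} : Set X)) = (1 : ℕ) →
      (∃ c : B, ∀ z ∈ closure ({y} : Set X), f z = c) → Curv2.euler k X (ClSub.quotMod (pt y)) = 1 →
      ii k (ClSub.idealMod (pt y)) (ClSub.idealMod (pt y)) ≠ -1)
    {ω : X.Modules} (hω : PicF.IsInvertible ω)
    (hadj : ∀ I : X.IdealSheafData, PicF.IsInvertible (ClSub.idealMod I) →
      2 * (Curv2.euler k X (ClSub.quotMod I) : ℚ) =
        ii k (ClSub.idealMod I) ω - ii k (ClSub.idealMod I) (ClSub.idealMod I))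
    {p : B} (hp : IsClosed ({p} : Set B)) (hg : Curv2.euler k X (ClSub.quotMod (f.fiberι p).ker) < 0)
    {y : X} (hy : topologicalKrullDim (closure ({y} : Set X)) = (1 : ℕ)) (hyp : ∀ z ∈ closure ({y} : Set X), f z = p) :
    ii k (ClSub.idealMod (pt y)) ω ≤ 0 := by
  haveI := isIntegral_pt y
  have hd := dim2 hdim
  have hyd := dim_support_pt k hd (reg_of_smooth k) hy
  have hv : ∀ x : X, x ∈ (pt y).support → f.base x = p := fun x hx =>
    hyp x ((Groth.L18.support_vanishingIdeal _).le hx)
  obtain ⟨hyI, hFF, hCC, hzero⟩ := vertical_facts k f hdim hdB hp (pt y) hyd hv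
  by_contra hpos
  rw [not_le] at hpos
  rcases hCC.lt_or_eq with hneg | h0
  · have h1 := hadj (pt y) hyI
    have hle : (Curv2.euler k X (ClSub.quotMod (pt y)) : ℚ) ≤ 1 := by
      exact_mod_cast (curve_euler k (pt y) hyd).1
    have hω1 := Groth.L03.BlowPt.Rational.one_le_ii_of_pos k hd (reg_of_smooth k) hpos
    have hC1 : ii k (ClSub.idealMod (pt y)) (ClSub.idealMod (pt y)) ≤ -1 := by
      rw [← intNum_eq_ii k hd.le] at hneg ⊢
      have h' : FGA.intNum k X 2 ![ClSub.idealMod (pt y), ClSub.idealMod (pt y)] (Coh.structureModule X) < (0 : ℤ) := by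
        exact_mod_cast hneg
      exact_mod_cast (Int.le_sub_one_of_lt h').trans_eq (zero_sub (1 : ℤ))
    have hχ1 : Curv2.euler k X (ClSub.quotMod (pt y)) = 1 := by
      have : (1 : ℚ) ≤ (Curv2.euler k X (ClSub.quotMod (pt y)) : ℚ) := by linarith
      exact le_antisymm (curve_euler k (pt y) hyd).1 (by exact_mod_cast this)
    exact hmin y hy ⟨p, hyp⟩ hχ1 (by linarith)
  · have hF := hadj (f.fiberι p).ker (Groth.L03.SurfNum.fibre_ideal k hdB f hp).1
    have hg' : (Curv2.euler k X (ClSub.quotMod (f.fiberι p).ker) : ℚ) < 0 := by exact_mod_cast hg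
    linarith [hzero ω hω h0 (by linarith)]

/-- High powers have no `H¹` on a fibre, uniformly. -/
theorem h1_fibre (hconn : IsIso (ClSub.unitToPush f))
    {L ω : X.Modules} (hL : PicF.IsInvertible L)
    (hadj : ∀ I : X.IdealSheafData, PicF.IsInvertible (ClSub.idealMod I) →
      2 * (Curv2.euler k X (ClSub.quotMod I) : ℚ) =
        ii k (ClSub.idealMod I) ω - ii k (ClSub.idealMod I) (ClSub.idealMod I))
    (hωI : PicF.IsInvertible ω)
    {p : B} (hp : IsClosed ({p} : Set B)) {e κ : ℚ}
    (he : ii k (ClSub.idealMod (f.fiberι p).ker) L = -e) (hκ : ii k (ClSub.idealMod (f.fiberι p).ker) ω = -κ)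
    (he0 : 0 < e)
    (hcan : ∀ y : X, topologicalKrullDim (closure ({y} : Set X)) = (1 : ℕ) → (∀ z ∈ closure ({y} : Set X), f z = p) →
      ii k (ClSub.idealMod (pt y)) ω ≤ 0)
    (hcurve : ∀ y : X, topologicalKrullDim (closure ({y} : Set X)) = (1 : ℕ) → (∀ z ∈ closure ({y} : Set X), f z = p) →
      ii k (ClSub.idealMod (pt y)) L ≤ 0 ∧ (ii k (ClSub.idealMod (pt y)) L = 0 →
        Curv2.euler k X (ClSub.quotMod (pt y)) = 1 ∧ ii k (ClSub.idealMod (pt y)) (ClSub.idealMod (pt y)) = -2))
    {h : ℕ} (hh : e * (2 + κ) + κ < h) :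
    Subsingleton (Coh.HH X (CohB1.tensorMod (CohB1.tensorPow L h) (ClSub.quotMod (f.fiberι p).ker)) 1) := by
  classical
  have hd := dim2 hdim
  have hreg := reg_of_smooth k (X := X)
  haveI := Groth.L21.RR.isNoetherian_of_proper (X := X) k
  obtain ⟨T, n, hTne, hT, hn, hTmem, hvert, hsupp, hF, hrow, hoff, hc⟩ :=
    Groth.L03.SurfFib.Zariski.fibre_config k hdim hdB f hconn hp
  obtain ⟨hIF, -, -, -⟩ := Groth.L03.SurfNum.fibre_ideal k hdB f hp
  obtain ⟨m₀, hm₀, hFm⟩ := Groth.L03.BlowPt.Ramanujam.exists_prodPt k hd hreg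
    ((Groth.Agent.L19.IdealInvertible.isEffCartier_iff _).1 hIF)
  rw [hFm]
  have hLh := Groth.L18.Ample.isInvertible_tensorPow hL h
  have hinv : ∀ y ∈ T, PicF.IsInvertible (ClSub.idealMod (pt y)) := fun y hy =>
    Groth.L03.BlowPt.inv_curve (k := k) hd hreg (hT y hy)
  -- the degrees on the whole fibre
  have hse : ∀ {M : X.Modules}, PicF.IsInvertible M → ii k (ClSub.idealMod (f.fiberι p).ker) M =
      ∑ y ∈ T, (n y : ℚ) * ii k (ClSub.idealMod (pt y)) M := fun {M} hM => by
    rw [hF]; exact Groth.L03.SurfFib.Zariski.ii_prod_pt k hd hT n hM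
  have hbound : ∀ y ∈ T, ii k (ClSub.idealMod (pt y)) L ≠ 0 → (n y : ℚ) ≤ e := by
    intro y hy hne
    have hneg : ii k (ClSub.idealMod (pt y)) L < 0 := lt_of_le_of_ne (hcurve y (hT y hy) (hvert y hy)).1 hne
    have h1 : ii k (ClSub.idealMod (pt y)) L ≤ -1 := by
      rw [← intNum_eq_ii k hd.le] at hneg ⊢
      have h' : FGA.intNum k X 2 ![ClSub.idealMod (pt y), L] (Coh.structureModule X) < (0 : ℤ) := by
        exact_mod_cast hneg
      exact_mod_cast (Int.le_sub_one_of_lt h').trans_eq (zero_sub (1 : ℤ))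
    have h2 : ∑ z ∈ T, (n z : ℚ) * -ii k (ClSub.idealMod (pt z)) L = e := by
      simp only [mul_neg, Finset.sum_neg_distrib]
      rw [← hse hL, he, neg_neg]
    have h3 : (n y : ℚ) * -ii k (ClSub.idealMod (pt y)) L ≤ e := by
      rw [← h2]
      exact Finset.single_le_sum (f := fun z => (n z : ℚ) * -ii k (ClSub.idealMod (pt z)) L)
        (fun z hz => mul_nonneg (Nat.cast_nonneg _) (by linarith [(hcurve z (hT z hz) (hvert z hz)).1])) hy
    have h4 : (0 : ℚ) ≤ (n y : ℚ) := Nat.cast_nonneg _
    nlinarith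
  have hκy : ∀ y ∈ T, -ii k (ClSub.idealMod (pt y)) ω ≤ κ := by
    intro y hy
    have h2 : ∑ z ∈ T, (n z : ℚ) * -ii k (ClSub.idealMod (pt z)) ω = κ := by
      simp only [mul_neg, Finset.sum_neg_distrib]
      rw [← hse hωI, hκ, neg_neg]
    have h3 : (n y : ℚ) * -ii k (ClSub.idealMod (pt y)) ω ≤ κ := by
      rw [← h2]
      exact Finset.single_le_sum (f := fun z => (n z : ℚ) * -ii k (ClSub.idealMod (pt z)) ω)
        (fun z hz => mul_nonneg (Nat.cast_nonneg _) (by linarith [hcan z (hT z hz) (hvert z hz)])) hy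
    have h4 : (1 : ℚ) ≤ (n y : ℚ) := by exact_mod_cast hn y hy
    nlinarith [hcan y (hT y hy) (hvert y hy)]
  -- the part of multiplicities inside the fibre
  have hcount : ∀ y ∈ T, m₀.count y = n y := fun y hy => by
    obtain ⟨U, hU, hyU, -⟩ := AlgebraicGeometry.exists_isAffineOpen_mem_and_subset (x := y) (U := ⊤) trivial
    have h1 := congrArg (fun I => Groth.L03.BlowPt.stalkIdeal I ⟨U, hU⟩ hyU) (hFm.symm.trans hF)
    rw [Groth.L03.BlowPt.Rational.stalkIdeal_prodPt k hd hreg m₀ hm₀ (hT y hy),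
      Groth.L03.BlowPt.stalkIdeal_prod_pt k hd hreg hT _ hy] at h1
    exact Groth.L03.BlowPt.maximalIdeal_pow_inj k hd hreg (hT y hy) h1
  have hmemT : ∀ y ∈ m₀, y ∈ T := fun y hy => by
    refine hTmem y ?_ (hm₀ y hy)
    have h1 : y ∈ ((f.fiberι p).ker.support : Set X) := by
      obtain ⟨m', rfl⟩ := Multiset.exists_cons_of_mem hy
      rw [hFm, prodPt_cons, Scheme.IdealSheafData.support_mul]
      exact Or.inl ((Groth.L18.support_vanishingIdeal _).ge (subset_closure rfl))
    rw [hsupp] at h1
    exact h1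
  suffices key : ∀ (c : ℕ) (m : Multiset X), m.card = c → m ≤ m₀ →
      Subsingleton (Coh.HH X (CohB1.tensorMod (CohB1.tensorPow L h) (ClSub.quotMod (prodPt m))) 1) from
    key _ m₀ rfl le_rfl
  intro c
  induction c with
  | zero =>
    intro m hm _
    rw [Multiset.card_eq_zero] at hm
    subst hm
    obtain ⟨q⟩ := nonempty_twistQuot_equiv k (prodPt (0 : Multiset X)) hLh 1
    letI : (prodPt (0 : Multiset X)).subscheme.Over (Spec (CommRingCat.of k)) :=
      ⟨(prodPt (0 : Multiset X)).subschemeι ≫ (X ↘ Spec (CommRingCat.of k))⟩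
    haveI : IsProper ((prodPt (0 : Multiset X)).subscheme ↘ Spec (CommRingCat.of k)) :=
      inferInstanceAs (IsProper ((prodPt (0 : Multiset X)).subschemeι ≫ (X ↘ Spec (CommRingCat.of k))))
    haveI := Groth.L21.RR.isNoetherian_of_proper (X := (prodPt (0 : Multiset X)).subscheme) k
    haveI : IsEmpty (prodPt (0 : Multiset X)).subscheme := ⟨fun z => by
      have h : (prodPt (0 : Multiset X)).subschemeι z ∈ ((prodPt (0 : Multiset X)).support : Set X) := by
        rw [← Scheme.IdealSheafData.range_subschemeι]; exact Set.mem_range_self z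
      simp [prodPt, Scheme.IdealSheafData.one_eq_top] at h⟩
    have hd0 : topologicalKrullDim (prodPt (0 : Multiset X)).subscheme ≤ (0 : ℕ) := by
      haveI : IsEmpty (IrreducibleCloseds (prodPt (0 : Multiset X)).subscheme) :=
        ⟨fun Z => isEmptyElim Z.isIrreducible'.nonempty.some⟩
      simp [topologicalKrullDim, Order.krullDim_eq_bot]
    exact @Equiv.subsingleton _ _ q.toEquiv (subsingleton_HH_of_dim hd0 _ (le_refl 1))
  | succ c ih =>
    intro m hm hle
    have hmc : ∀ y ∈ m, topologicalKrullDim (closure ({y} : Set X)) = (1 : ℕ) :=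
      fun y hy => hm₀ y (Multiset.mem_of_le hle hy)
    suffices hex : ∃ y ∈ m, ii k (ClSub.idealMod (prodPt (m.erase y))) (ClSub.idealMod (pt y)) +
        (h : ℚ) * ii k (ClSub.idealMod (pt y)) L < 2 * (Curv2.euler k X (ClSub.quotMod (pt y)) : ℚ) by
      obtain ⟨y, hy, hlt⟩ := hex
      have hyd := hmc y hy
      have hD := isEffCartier_prodPt k hd hreg (m.erase y) fun z hz => hmc z (Multiset.mem_of_mem_erase hz)
      rw [← Multiset.cons_erase hy, prodPt_cons, mul_comm]
      refine Groth.L03.BlowPt.Rational.step k hd hreg hD hLh ?_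
        (ih _ (by rw [Multiset.card_erase_of_mem hy, hm]; rfl) ((Multiset.erase_le y m).trans hle))
      refine subsingleton_h1_curve k hdim hyd (Groth.L18.GenLoc.isInvertible_tensor hLh
        ((Groth.Agent.L19.IdealInvertible.isEffCartier_iff _).2 hD)) ?_
      have hyc := isEffCartier_pt k hd hreg hyd
      have hyI : PicF.IsInvertible (ClSub.idealMod (pt y)) :=
        (Groth.Agent.L19.IdealInvertible.isEffCartier_iff _).2 hyc
      have h1 : ((-2 * Curv2.euler k X (ClSub.quotMod (pt y)) : ℤ) : ℚ) <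
          ((degOn k (pt y) (CohB1.tensorMod (CohB1.tensorPow L h) (ClSub.idealMod (prodPt (m.erase y)))) : ℤ) : ℚ) := by
        rw [Groth.L03.BlowPt.Rational.degOn_eq k hd hreg hyc hLh hD, Groth.L03.BlowPt.degOn_cast k hyI hLh,
          ii_comm k (ClSub.idealMod (pt y)) (CohB1.tensorPow L h), ii_pow k hd.le hL hyI,
          ii_comm k L (ClSub.idealMod (pt y))]
        push_cast
        linarith
      exact_mod_cast h1
    -- intersection of a part with one of the curves
    have hY : ∀ y ∈ m, ii k (ClSub.idealMod (prodPt (m.erase y))) (ClSub.idealMod (pt y)) =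
        ∑ j ∈ T, (m.count j : ℚ) * ii k (ClSub.idealMod (pt j)) (ClSub.idealMod (pt y)) -
          ii k (ClSub.idealMod (pt y)) (ClSub.idealMod (pt y)) := by
      intro y hy
      have hyd := hmc y hy
      have hyc := isEffCartier_pt k hd hreg hyd
      have hyI : PicF.IsInvertible (ClSub.idealMod (pt y)) :=
        (Groth.Agent.L19.IdealInvertible.isEffCartier_iff _).2 hyc
      have hprod : prodPt m = ∏ j ∈ T, pt j ^ m.count j := by
        rw [prodPt, Finset.prod_multiset_map_count]
        refine Finset.prod_subset (fun j hj => hmemT j (Multiset.mem_of_le hle (Multiset.mem_toFinset.1 hj))) ?_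
        intro j _ hj
        rw [Multiset.count_eq_zero.2 (fun h => hj (Multiset.mem_toFinset.2 h)), pow_zero]
      have h1 := Groth.L03.SurfAmple.ii_ideal_mul k hd.le hyc
        (isEffCartier_prodPt k hd hreg (m.erase y) fun z hz => hmc z (Multiset.mem_of_mem_erase hz)) hyI
      rw [← prodPt_cons, Multiset.cons_erase hy, hprod, Groth.L03.SurfFib.Zariski.ii_prod_pt k hd hT _ hyI] at h1
      linarith
    by_cases hbig : ∃ y ∈ m, ii k (ClSub.idealMod (pt y)) L ≠ 0
    · obtain ⟨y, hy, hne⟩ := hbig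
      refine ⟨y, hy, ?_⟩
      have hyT := hmemT y (Multiset.mem_of_le hle hy)
      have hyI := hinv y hyT
      rw [hY y hy]
      set C2 := ii k (ClSub.idealMod (pt y)) (ClSub.idealMod (pt y)) with hC2
      have hL1 : ii k (ClSub.idealMod (pt y)) L ≤ -1 := by
        have hneg : ii k (ClSub.idealMod (pt y)) L < 0 := lt_of_le_of_ne (hcurve y (hT y hyT) (hvert y hyT)).1 hne
        rw [← intNum_eq_ii k hd.le] at hneg ⊢
        have h' : FGA.intNum k X 2 ![ClSub.idealMod (pt y), L] (Coh.structureModule X) < (0 : ℤ) := by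
          exact_mod_cast hneg
        exact_mod_cast (Int.le_sub_one_of_lt h').trans_eq (zero_sub (1 : ℤ))
      have hC2le : C2 ≤ 0 := by
        haveI := isIntegral_pt y
        exact (vertical_facts k f hdim hdB hp (pt y) (dim_support_pt k hd hreg (hT y hyT)) (c := p) fun x hx =>
          hvert y hyT x ((Groth.L18.support_vanishingIdeal _).le hx)).2.2.1
      have hcy : (1 : ℚ) ≤ m.count y := by exact_mod_cast Multiset.count_pos.2 hy
      have hsum : ∑ j ∈ T, (m.count j : ℚ) * ii k (ClSub.idealMod (pt j)) (ClSub.idealMod (pt y)) - C2 ≤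
          -((n y : ℚ) * C2) := by
        rw [← Finset.sum_erase_add _ _ hyT, ← hC2]
        have h2 : ∑ j ∈ T.erase y, (n j : ℚ) * ii k (ClSub.idealMod (pt j)) (ClSub.idealMod (pt y)) =
            -((n y : ℚ) * C2) := by
          rw [eq_neg_iff_add_eq_zero, hC2, Finset.sum_erase_add _ _ hyT, ← hrow y hyT]
          exact Finset.sum_congr rfl fun j _ => by rw [ii_comm k (ClSub.idealMod (pt j)), mul_comm]
        have h3 : ∑ j ∈ T.erase y, (m.count j : ℚ) * ii k (ClSub.idealMod (pt j)) (ClSub.idealMod (pt y)) ≤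
            ∑ j ∈ T.erase y, (n j : ℚ) * ii k (ClSub.idealMod (pt j)) (ClSub.idealMod (pt y)) := by
          refine Finset.sum_le_sum fun j hj => ?_
          have hjT := Finset.mem_of_mem_erase hj
          refine mul_le_mul_of_nonneg_right ?_ (hoff j hjT y hyT (Finset.ne_of_mem_erase hj))
          exact_mod_cast (Multiset.count_le_of_le j hle).trans_eq (hcount j hjT)
        nlinarith
      have hadjy := hadj (pt y) hyI
      have hχ : (Curv2.euler k X (ClSub.quotMod (pt y)) : ℚ) ≤ 1 := by
        haveI := isIntegral_pt y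
        exact_mod_cast (curve_euler k (pt y) (dim_support_pt k hd hreg (hT y hyT))).1
      have hk := hκy y hyT
      have hcan' := hcan y (hT y hyT) (hvert y hyT)
      have hne' := hbound y hyT hne
      rw [← hC2] at hadjy
      have hn0 : (0 : ℚ) ≤ (n y : ℚ) := Nat.cast_nonneg _
      have h5 : -((n y : ℚ) * C2) ≤ e * (2 + κ) := by
        have h6 : -C2 ≤ 2 + κ := by linarith
        calc -((n y : ℚ) * C2) = (n y : ℚ) * -C2 := by ring
          _ ≤ e * (2 + κ) := mul_le_mul hne' h6 (by linarith) he0.le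
      have h7 : (h : ℚ) * ii k (ClSub.idealMod (pt y)) L ≤ -(h : ℚ) := by
        nlinarith [Nat.cast_nonneg (α := ℚ) h]
      linarith
    · push Not at hbig
      set G : T → T → ℚ := fun i j => ii k (ClSub.idealMod (pt i.1)) (ClSub.idealMod (pt j.1))
      obtain ⟨hle', heq⟩ := Groth.L03.SurfFib.Zariski.multiple_of_null G (fun i j => ii_comm k _ _)
        (fun i j h => hoff i.1 i.2 j.1 j.2 fun e => h (Subtype.ext e)) hc (fun i => (n i.1 : ℚ))
        (fun i => by exact_mod_cast hn i.1 i.2)
        (fun i => by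
          rw [← hrow i.1 i.2]
          exact Finset.sum_coe_sort T (fun j => ii k (ClSub.idealMod (pt i.1)) (ClSub.idealMod (pt j)) * (n j : ℚ)))
        (fun i => (m.count i.1 : ℚ))
      by_contra hno
      push Not at hno
      have hnn : ∀ i : T, 0 ≤ (m.count i.1 : ℚ) * ∑ j : T, (m.count j.1 : ℚ) * G j i := fun i => by
        rcases Nat.eq_zero_or_pos (m.count i.1) with h0 | hpos
        · simp [h0]
        · have him := Multiset.count_pos.1 hpos
          obtain ⟨hχ, hC⟩ := (hcurve i.1 (hT i.1 i.2) (hvert i.1 i.2)).2 (hbig i.1 him)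
          have h1 := hno i.1 him
          rw [hY i.1 him, hbig i.1 him, hC, hχ, ← Finset.sum_coe_sort] at h1
          push_cast at h1
          exact mul_nonneg (Nat.cast_nonneg _) (by linarith)
      have h0 : ∑ i : T, ∑ j : T, (m.count i.1 : ℚ) * m.count j.1 * G i j = 0 := by
        refine le_antisymm hle' ?_
        refine le_of_le_of_eq (Finset.sum_nonneg fun i _ => hnn i) (Finset.sum_congr rfl fun i _ => ?_)
        rw [Finset.mul_sum]
        refine Finset.sum_congr rfl fun j _ => ?_
        show (m.count i.1 : ℚ) * ((m.count j.1 : ℚ) * G j i) = _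
        rw [show G j i = G i j from ii_comm k _ _]
        ring
      obtain ⟨y₁, hy₁⟩ : ∃ y, y ∈ m := Multiset.exists_mem_of_ne_zero fun h => by simp [h] at hm
      have hy₁T := hmemT y₁ (Multiset.mem_of_le hle hy₁)
      have hall : ∀ y ∈ T, ii k (ClSub.idealMod (pt y)) L = 0 := fun y hy => by
        refine hbig y (Multiset.count_pos.1 ?_)
        by_contra hz
        have h4 : (m.count y₁ : ℚ) * (n y : ℚ) = (m.count y : ℚ) * (n y₁ : ℚ) := heq h0 ⟨y₁, hy₁T⟩ ⟨y, hy⟩
        rw [Nat.eq_zero_of_not_pos hz, Nat.cast_zero, zero_mul] at h4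
        have : (0 : ℚ) < (m.count y₁ : ℚ) * n y := by
          have := hn y hy
          have := Multiset.count_pos.2 hy₁
          positivity
        linarith
      have := hse hL
      rw [he, Finset.sum_eq_zero fun y hy => by rw [hall y hy, mul_zero]] at this
      linarith

end Groth.L03.SurfFib.FibreH1
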