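import Groth.Agent.L03.SurfFib.PushFree
import Groth.Agent.L03.SurfFib.PushTensor
import Groth.Agent.L03.SurfFib.FiberHIff
import Groth.Agent.L03.SurfFib.FibreH1
import Groth.Agent.L21.Duality.CliffordEquality
import Groth.Agent.L22.CurveDeg.TensorDeg
import Groth.Agent.L29.DCoh.PullTensor
import Groth.Agent.L21.RR.Twist
import Groth.Agent.L16.PushEdge

/-!
# The rank of the direct image of the canonical module of a fibred surface
-/

set_option autoImplicit false
set_option backward.isDefEq.respectTransparency false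
set_option linter.style.haveILetI false
set_option linter.unusedSectionVars false
set_option maxHeartbeats 800000
universe u

open CategoryTheory CategoryTheory.Limits AlgebraicGeometry TopologicalSpace
open Groth.L22 Groth.L22.Inter Groth.L22.Nef Groth.L22.Big Groth.L03.Euler Groth.L03.SurfNum Groth.L03.SurfAdj
open Groth.L00.Tensor (tensorIso tensorComm tensorUnitLeft tensorUnitRight tensorAssoc)
open Groth.L16.CohLinear (hmap overLin delta exact_hmap_hmap exact_hmap_delta exact_delta_hmap)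
open Groth.L21.RR (h e0 twι twπ shortExact_tw)

noncomputable section

namespace Groth.L03.SurfFib.RelCanRank

theorem finrank_le_of_exact {K P Q S : Type*} [Field K] [AddCommGroup P] [Module K P] [AddCommGroup Q] [Module K Q]
    [AddCommGroup S] [Module K S] [Module.Finite K P] [Module.Finite K Q] [Module.Finite K S]
    (a : P →ₗ[K] Q) (b : Q →ₗ[K] S) (h : Function.Exact a b) :
    Module.finrank K Q ≤ Module.finrank K P + Module.finrank K S := by
  have h1 := LinearMap.finrank_range_add_finrank_ker b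
  rw [h.linearMap_ker_eq] at h1
  have h2 := LinearMap.finrank_range_le a
  have h3 := Submodule.finrank_le (LinearMap.range b)
  omega

/-- Sections of a direct image are sections upstairs, linearly over the base field. -/
theorem nonempty_h0_push (k : Type u) [Field k] {X Y : Scheme.{u}} [X.Over (Spec (CommRingCat.of k))]
    [Y.Over (Spec (CommRingCat.of k))] (f : X ⟶ Y) [f.IsOver (Spec (CommRingCat.of k))] (G : X.Modules) :
    Nonempty (Coh.HH Y ((Scheme.Modules.pushforward f).obj G) 0 ≃ₗ[k] Coh.HH X G 0) := by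
  refine ⟨LinearEquiv.ofBijective
    { toFun := CohPull.pushEdge f G 0
      map_add' := fun a b => map_add (CohPull.pushEdge f G 0) a b
      map_smul' := fun c v => ?_ } ?_⟩
  · refine (Groth.L14.LocHilbLift.pushEdge_smul f G 0 (Coh.toGlobal (Y ↘ Spec (CommRingCat.of k)) c) v).trans ?_
    refine congrArg (fun r : Coh.Γtop X => r • CohPull.pushEdge f G 0 v) ?_
    show f.appTop ((Y ↘ Spec (CommRingCat.of k)).appTop _) = (X ↘ Spec (CommRingCat.of k)).appTop _
    rw [← comp_over f (Spec (CommRingCat.of k)), Scheme.Hom.comp_appTop]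
    rfl
  · show Function.Bijective (CohPull.pushEdge f G 0)
    rw [show ⇑(CohPull.pushEdge f G 0) = Groth.L16.PushEdge.edge f.base (Coh.toAb G) 0 from
      funext (Groth.L16.PushEdge.pushEdge_eq f G 0)]
    exact Groth.L16.PushEdge.edge_zero_bijective f.base (Coh.toAb G)

variable (k : Type u) [Field k] [IsAlgClosed k] {X : Scheme.{u}} [X.Over (Spec (CommRingCat.of k))]
  [IsProper (X ↘ Spec (CommRingCat.of k))] [IsIntegral X]
  {B : Scheme.{u}} [B.Over (Spec (CommRingCat.of k))] [IsProper (B ↘ Spec (CommRingCat.of k))]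
  [Smooth (B ↘ Spec (CommRingCat.of k))] [IsIntegral B]
  (f : X ⟶ B) [f.IsOver (Spec (CommRingCat.of k))] [Surjective f]

include k in
/-- Modules from the base are trivial on a closed fibre. -/
theorem nonempty_quot_iso {p : B} (hp : IsClosed ({p} : Set B)) {M : B.Modules} (hM : PicF.IsInvertible M) :
    Nonempty (CohB1.tensorMod ((Scheme.Modules.pullback f).obj M) (ClSub.quotMod (f.fiberι p).ker) ≅
      ClSub.quotMod (f.fiberι p).ker) := by
  haveI : IsClosedImmersion (B.fromSpecResidueField p) := isClosed_singleton_iff_isClosedImmersion.mp hp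
  haveI : IsClosedImmersion (f.fiberι p) :=
    inferInstanceAs (IsClosedImmersion (pullback.fst f (B.fromSpecResidueField p)))
  haveI : Subsingleton (Spec (B.residueField p)) :=
    inferInstanceAs (Subsingleton (PrimeSpectrum (B.residueField p)))
  obtain ⟨θ⟩ := (PicGrp.cl_eq_cl_iff _ _).1
    (Groth.Agent.AbDualLib.eq_oneCl_of_subsingleton (Y := Spec (B.residueField p))
      (c := PicF.cl ((Scheme.Modules.pullback (B.fromSpecResidueField p)).obj M))
      ⟨_, rfl, Groth.L18.Ample.isInvertible_pullback _ hM⟩)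
  obtain ⟨ep⟩ := Groth.L03.SurfFib.PushTensor.nonempty_push_iso_quot (f.fiberι p)
  let θF : (Scheme.Modules.pullback (f.fiberι p)).obj ((Scheme.Modules.pullback f).obj M) ≅
      Coh.structureModule (f.fiber p) :=
    (Scheme.Modules.pullbackComp (f.fiberι p) f).app M ≪≫
      (Scheme.Modules.pullbackCongr (f.fiber_fac p)).app _ ≪≫
      ((Scheme.Modules.pullbackComp (f.fiberToSpecResidueField p) _).app _).symm ≪≫
      (Scheme.Modules.pullback (f.fiberToSpecResidueField p)).mapIso θ ≪≫
      Groth.L29.LocFree.pullbackUnitIso _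
  exact ⟨tensorIso (Iso.refl _) ep.symm ≪≫ Groth.L03.SurfFib.PushTensor.tensorPushIso (f.fiberι p) _ ≪≫
    (Scheme.Modules.pushforward (f.fiberι p)).mapIso θF ≪≫ ep⟩

variable [Smooth (X ↘ Spec (CommRingCat.of k))] (hd : topologicalKrullDim X = 2)
  (hdB : topologicalKrullDim B = 1)

include hd hdB

theorem rank_eq_genus [HasInjectiveResolutions X.Modules] (hconn : IsIso (ClSub.unitToPush f))
    {p₀ : B} (hp₀ : IsClosed ({p₀} : Set B))
    {g : ℕ} (hg : Curv2.euler k X (ClSub.quotMod (f.fiberι p₀).ker) = 1 - (g : ℤ))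
    {W : X.Modules} (hW : ExtPow.IsExtPow 2 (Omega.sheaf (X ↘ Spec (CommRingCat.of k))) W)
    {L : X.Modules} (hL : PicF.IsInvertible L) {M₀ : B.Modules} (hM₀ : PicF.IsInvertible M₀)
    (eL : Nonempty (L ≅ CohB1.tensorMod W ((Scheme.Modules.pullback f).obj M₀))) :
    FlatMod.IsFinLocFreeOfRank g ((Coh.push f).obj L) := by
  classical
  have hd2 : topologicalKrullDim X = (2 : ℕ) := hd.trans Nat.cast_ofNat.symm
  haveI := Groth.L21.RR.isNoetherian_of_proper (X := X) k
  haveI := Groth.L21.RR.isNoetherian_of_proper (X := B) k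
  haveI : IsProper (f ≫ (B ↘ Spec (CommRingCat.of k))) := by rw [comp_over]; infer_instance
  haveI : IsProper f := IsProper.of_comp f (B ↘ Spec (CommRingCat.of k))
  haveI := Groth.L03.SurfNum.flat_of_surjective k hdB f
  haveI : JacobsonSpace B := LocallyOfFiniteType.jacobsonSpace (B ↘ Spec (CommRingCat.of k))
  have hreg := reg_of_smooth k (X := X)
  have hregB := reg_of_smooth k (X := B)
  have hf := Groth.L03.SurfFib.Zariski.isIso_app f hconn
  obtain ⟨hWi, hflip, hflip0, hRR⟩ := canonical k hd hreg hW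
  obtain ⟨eL⟩ := eL
  obtain ⟨r, hr⟩ := Groth.L03.SurfFib.PushFree.exists_rank_push f hf hregB hdB.le hL
  suffices hrg : r = g by exact hrg ▸ hr
  obtain ⟨rW, hrW⟩ := Groth.L03.SurfFib.PushFree.exists_rank_push f hf hregB hdB.le hWi
  have hO := Groth.L18.Ample.isInvertible_structureModule X
  obtain ⟨rO, hrO⟩ := Groth.L03.SurfFib.PushFree.exists_rank_push f hf hregB hdB.le hO
  -- `f_* O = O`
  have hrO1 : rO = 1 := by
    obtain ⟨V, hyV, ⟨e⟩⟩ := hrO p₀
    obtain ⟨V', hyV', ⟨e'⟩⟩ := Groth.L12.FinCov.isFinLocFreeOfRank_one_of_isInvertible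
      (Groth.L18.Ample.isInvertible_structureModule B) p₀
    haveI := hconn
    exact Groth.L18.KRRAmple.rank_unique hyV hyV'
      ((Scheme.Modules.restrictFunctor V.ι).mapIso (asIso (ClSub.unitToPush f)) ≪≫ e) e'
  obtain ⟨U₁, hU₁, hU₁r⟩ := Groth.L03.SurfFib.PushFree.exists_open_fiberRank f hL hr
  obtain ⟨U₂, hU₂, hU₂r⟩ := Groth.L03.SurfFib.PushFree.exists_open_fiberRank f hWi hrW
  obtain ⟨U₃, hU₃, hU₃r⟩ := Groth.L03.SurfFib.PushFree.exists_open_fiberRank f hO hrO
  obtain ⟨p, ⟨⟨hp1, hp2⟩, hp3⟩, hpc⟩ := nonempty_inter_closedPoints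
    (Z := ((U₁ ⊓ U₂ ⊓ U₃ : B.Opens) : Set B))
    ⟨genericPoint B, ⟨(genericPoint_spec B).mem_open_set_iff U₁.2 |>.2 (by simpa using hU₁),
      (genericPoint_spec B).mem_open_set_iff U₂.2 |>.2 (by simpa using hU₂)⟩,
      (genericPoint_spec B).mem_open_set_iff U₃.2 |>.2 (by simpa using hU₃)⟩
    (U₁ ⊓ U₂ ⊓ U₃).2.isLocallyClosed
  rw [mem_closedPoints_iff] at hpc
  obtain ⟨hIFi, hIpi, hsupp, ⟨α⟩⟩ := Groth.L03.SurfNum.fibre_ideal k hdB f hpc
  set Ip := ClSub.idealMod (B.fromSpecResidueField p).ker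
  obtain ⟨A, hA, ⟨eA⟩⟩ := Groth.L08.Cube.exists_inverse hIpi
  -- fibre ranks are computed on `X`
  have hrank : ∀ {N : X.Modules}, PicF.IsInvertible N → CohIII.fiberRank f N 0 p =
      Module.finrank k (Coh.HH X (CohB1.tensorMod N (ClSub.quotMod (f.fiberι p).ker)) 0) := fun {N} hN =>
    Groth.L03.SurfFib.Zariski.fiberRank_eq k f hpc hN 0
  have hW0 : Module.finrank k (Coh.HH X (CohB1.tensorMod W (ClSub.quotMod (f.fiberι p).ker)) 0) = rW := by
    rw [← hrank hWi, hU₂r p hp2]
  have hO0 : Module.finrank k (Coh.HH X (ClSub.quotMod (f.fiberι p).ker) 0) = 1 := by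
    rw [← finrank_HH_of_iso (tensorUnitLeft (ClSub.quotMod (f.fiberι p).ker)), ← hrank hO, hU₃r p hp3, hrO1]
  have hrL : r = rW := by
    rw [← hW0, ← hU₁r p hp1, hrank hL]
    obtain ⟨e⟩ := nonempty_quot_iso k f hpc hM₀
    exact finrank_HH_of_iso (tensorIso eL (Iso.refl _) ≪≫ tensorAssoc _ _ _ ≪≫ tensorIso (Iso.refl W) e) 0
  -- the numerical invariants of the fibre
  have hFF : ∀ {Z : X.Modules}, PicF.IsInvertible Z → ii k (ClSub.idealMod (f.fiberι p).ker) Z =
      ii k (ClSub.idealMod (f.fiberι p₀).ker) Z := fun {Z} hZ =>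
    Groth.L03.SurfFib.FibreH1.ii_fibre_eq k hd hdB f hpc hp₀ hZ
  obtain ⟨hI₀, -, -, -⟩ := Groth.L03.SurfNum.fibre_ideal k hdB f hp₀
  have hIFne : ∃ y : X, topologicalKrullDim (closure ({y} : Set X)) = (1 : ℕ) ∧ ∀ z ∈ closure ({y} : Set X), f z = p := by
    obtain ⟨T, n, ⟨y, hy⟩, hT, -, -, hv, -⟩ := Groth.L03.SurfFib.Zariski.fibre_config k hd hdB f hconn hpc
    exact ⟨y, hT y hy, hv y hy⟩
  obtain ⟨y₁, hy₁, hy₁p⟩ := hIFne
  haveI := isIntegral_pt y₁
  have hII : ii k (ClSub.idealMod (f.fiberι p).ker) (ClSub.idealMod (f.fiberι p).ker) = 0 :=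
    (vertical_facts k f hd hdB hpc (pt y₁)
      (Groth.L03.BlowPt.Ramanujam.dim_support_pt k hd2 hreg hy₁) (c := p) fun x hx =>
        hy₁p x ((Groth.L18.support_vanishingIdeal _).le hx)).2.1
  have hII₀ : ii k (ClSub.idealMod (f.fiberι p₀).ker) (ClSub.idealMod (f.fiberι p₀).ker) = 0 := by
    rw [← hFF hI₀, ii_comm, ← hFF hIFi, hII]
  have hIW : ii k (ClSub.idealMod (f.fiberι p).ker) W = 2 * (1 - (g : ℚ)) := by
    have h1 := adj_num k hd hreg hW _ hI₀
    rw [hg, hII₀, sub_zero] at h1
    rw [hFF hWi, ← h1]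
    push_cast
    ring
  obtain ⟨H, hH⟩ := Groth.L03.SurfAmple.exists_ample k X hd2 hreg
  have hIH : ii k (ClSub.idealMod (f.fiberι p).ker) H < 0 := by
    refine Groth.L03.SurfAmple.ii_ideal_ample_neg k hd2
      ((Groth.Agent.L19.IdealInvertible.isEffCartier_iff _).1 hIFi) (fun h => ?_) hH
    obtain ⟨x, hx⟩ := Surjective.surj (f := f) p
    have : x ∈ (f ⁻¹' {p} : Set X) := hx
    rw [← hsupp, h, Scheme.IdealSheafData.support_top] at this
    exact this
  let Pp : ℕ → X.Modules := fun n => (Scheme.Modules.pullback f).obj (CohB1.tensorPow A n)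
  let Pm : ℕ → X.Modules := fun n => (Scheme.Modules.pullback f).obj (CohB1.tensorPow Ip n)
  have hPp : ∀ n, PicF.IsInvertible (Pp n) := fun n =>
    Groth.L18.Ample.isInvertible_pullback f (Groth.L18.Ample.isInvertible_tensorPow hA n)
  have hPm : ∀ n, PicF.IsInvertible (Pm n) := fun n =>
    Groth.L18.Ample.isInvertible_pullback f (Groth.L18.Ample.isInvertible_tensorPow hIpi n)
  have hdegp : Curv2.deg k B Ip 1 = -1 := (Groth.L03.SurfFib.deg_point (k := k) hdB hpc).2
  have hdegA : Curv2.deg k B A 1 = 1 := by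
    have h1 := Groth.L21.Duality.deg_tensor (k := k) hdB hIpi hA
    rw [Curv2.deg, euler_iso eA, hdegp, Nat.cast_one, one_mul, sub_self] at h1
    linarith
  have hiiPm : ∀ n {Z : X.Modules}, PicF.IsInvertible Z → ii k (Pm n) Z = (n : ℚ) * ii k (ClSub.idealMod (f.fiberι p).ker) Z := by
    intro n Z hZ
    rw [Groth.L03.SurfFib.ii_pullback_base (k := k) hd2 hdB f hpc (Groth.L18.Ample.isInvertible_tensorPow hIpi n) hZ,
      Groth.L21.Duality.deg_tensorPow hdB hIpi, hdegp, ii_congr k α Z]
    push_cast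
    ring
  have hiiPp : ∀ n {Z : X.Modules}, PicF.IsInvertible Z → ii k (Pp n) Z = -(n : ℚ) * ii k (ClSub.idealMod (f.fiberι p).ker) Z := by
    intro n Z hZ
    rw [Groth.L03.SurfFib.ii_pullback_base (k := k) hd2 hdB f hpc (Groth.L18.Ample.isInvertible_tensorPow hA n) hZ,
      Groth.L21.Duality.deg_tensorPow hdB hA, hdegA, ii_congr k α Z]
    push_cast
    ring
  -- the powers are inverse to each other
  have einv : ∀ n, Nonempty (CohB1.tensorMod (Pm n) (Pp n) ≅ Coh.structureModule X) := by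
    intro n
    induction n with
    | zero =>
      exact ⟨tensorIso (Groth.L29.LocFree.pullbackUnitIso f) (Groth.L29.LocFree.pullbackUnitIso f) ≪≫
        tensorUnitLeft _⟩
    | succ n ih =>
      obtain ⟨e⟩ := ih
      exact ⟨tensorIso (Groth.L29.DC.PullTensor.pullTensor f _ Ip).symm
          (Groth.L29.DC.PullTensor.pullTensor f _ A).symm ≪≫ Groth.L00.Tensor.tensorMiddleFour _ _ _ _ ≪≫
        tensorIso e (Groth.L29.DC.PullTensor.pullTensor f Ip A ≪≫ (Scheme.Modules.pullback f).mapIso eA ≪≫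
          Groth.L29.LocFree.pullbackUnitIso f) ≪≫ tensorUnitLeft _⟩
  have hfinN := fun (N : X.Modules) (hN : PicF.IsInvertible N) (i : ℕ) =>
    Groth.L16.ProperFinite.finite_HH k (Groth.L18.Ample.isCoh_of_isInvertible hN) i
  have hfinQ : ∀ {N : X.Modules}, PicF.IsInvertible N → ∀ i,
      Module.Finite k (Coh.HH X (CohB1.tensorMod N (ClSub.quotMod (f.fiberι p).ker)) i) := fun hN i =>
    Groth.L03.BlowPt.Rational.finite_h k hd2 hreg hN (f.fiberι p).ker i
  -- `H¹` of the negative powers grows at most linearly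
  have hh1 : ∀ n, (Module.finrank k (Coh.HH X (Pm n) 1) : ℤ) ≤
      Module.finrank k (Coh.HH X (Coh.structureModule X) 1) + n := by
    intro n
    induction n with
    | zero =>
      rw [finrank_HH_of_iso (Groth.L29.LocFree.pullbackUnitIso f) (M := Pm 0)]
      simp
    | succ n ih =>
      have e1 : Pm (n + 1) ≅ CohB1.tensorMod (Pm n) (ClSub.idealMod (f.fiberι p).ker) :=
        (Groth.L29.DC.PullTensor.pullTensor f _ Ip).symm ≪≫ tensorIso (Iso.refl _) α
      obtain ⟨e2⟩ := nonempty_quot_iso k f hpc (Groth.L18.Ample.isInvertible_tensorPow hIpi n)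
      have hS := shortExact_tw (I := (f.fiberι p).ker) (hPm n)
      haveI := hfinN (Pm n) (hPm n) 1
      haveI := hfinN _ (Groth.L18.GenLoc.isInvertible_tensor (hPm n) hIFi) 1
      haveI := hfinQ (hPm n) 0
      have hex : Function.Exact (overLin k (delta hS 0)) (overLin k (hmap (twι (Pm n) (f.fiberι p).ker) 1)) := exact_delta_hmap hS 0
      have h2 : Module.finrank k (Coh.HH X (CohB1.tensorMod (Pm n) (ClSub.idealMod (f.fiberι p).ker)) 1) ≤
          Module.finrank k (Coh.HH X (CohB1.tensorMod (Pm n) (ClSub.quotMod (f.fiberι p).ker)) 0) +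
            Module.finrank k (Coh.HH X (Pm n) 1) := finrank_le_of_exact _ _ hex
      have h4 : Module.finrank k (Coh.HH X (CohB1.tensorMod (Pm n) (ClSub.quotMod (f.fiberι p).ker)) 0) = 1 :=
        (finrank_HH_of_iso e2 0).trans hO0
      have h5 := finrank_HH_of_iso (k := k) e1 1
      push_cast
      omega
  -- no sections of negative twists
  have hneg : ∀ n, Subsingleton (Coh.HH X (Pm (n + 1)) 0) := fun n => by
    refine not_nontrivial_iff_subsingleton.1 fun hn => ?_
    haveI := hn
    obtain ⟨s, hs⟩ := Groth.L21.RR.exists_hom_ne_zero (L := Pm (n + 1))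
    have h1 : (0 : ℚ) ≤ ii k (Pm (n + 1)) H := by
      rcases ii_effective k hd2.le (hPm _) hH s hs with h | h
      · exact h.le
      · exact (h H hH.1).ge
    rw [hiiPm (n + 1) hH.1] at h1
    have : (0 : ℚ) < ((n + 1 : ℕ) : ℚ) := by positivity
    nlinarith
  have hh2 : ∀ n, Module.finrank k (Coh.HH X (CohB1.tensorMod W (Pp (n + 1))) 2) = 0 := fun n => by
    rw [hflip (Pm (n + 1)) (Pp (n + 1)) (hPm _) (einv _) 2 le_rfl]
    haveI := hneg n
    exact Module.finrank_zero_of_subsingleton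
  have hχ : ∀ n, (Curv2.euler k X (CohB1.tensorMod W (Pp n)) : ℚ) =
      Curv2.euler k X (Coh.structureModule X) + (n : ℚ) * ((g : ℚ) - 1) := by
    intro n
    have hWP := Groth.L18.GenLoc.isInvertible_tensor hWi (hPp n)
    have h1 := hRR _ hWP
    rw [ii_tensor k hd2.le hWi (hPp n) hWP, ii_tensor k hd2.le hWi (hPp n) hWi,
      ii_tensor_right k hd2.le hWi hWi (hPp n), ii_tensor_right k hd2.le (hPp n) hWi (hPp n),
      ii_comm k W (Pp n), hiiPp n hWi, hiiPp n (hPp n), ii_comm k (ClSub.idealMod (f.fiberι p).ker) (Pp n),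
      hiiPp n hIFi, hII, hIW] at h1
    linarith
  -- lower bound: the fibre
  have hlow : g ≤ rW := by
    obtain ⟨e2⟩ := nonempty_quot_iso k f hpc hA
    let P := (Scheme.Modules.pullback f).obj A
    have hP : PicF.IsInvertible P := Groth.L18.Ample.isInvertible_pullback f hA
    let N := CohB1.tensorMod W P
    have hN : PicF.IsInvertible N := Groth.L18.GenLoc.isInvertible_tensor hWi hP
    have eN : CohB1.tensorMod N (ClSub.idealMod (f.fiberι p).ker) ≅ W :=
      tensorAssoc W P _ ≪≫ tensorIso (Iso.refl W) (tensorComm _ _ ≪≫ tensorIso α.symm (Iso.refl P) ≪≫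
        Groth.L29.DC.PullTensor.pullTensor f Ip A ≪≫ (Scheme.Modules.pullback f).mapIso eA ≪≫
          Groth.L29.LocFree.pullbackUnitIso f) ≪≫ tensorUnitRight W
    have eQ : CohB1.tensorMod N (ClSub.quotMod (f.fiberι p).ker) ≅ CohB1.tensorMod W (ClSub.quotMod (f.fiberι p).ker) :=
      tensorAssoc W P _ ≪≫ tensorIso (Iso.refl W) e2
    have hS := shortExact_tw (I := (f.fiberι p).ker) hN
    have hpos : 1 ≤ Module.finrank k (Coh.HH X (CohB1.tensorMod W (ClSub.quotMod (f.fiberι p).ker)) 1) := by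
      haveI := hfinQ hWi 1
      by_contra hlt
      haveI hz : Subsingleton (Coh.HH X (CohB1.tensorMod W (ClSub.quotMod (f.fiberι p).ker)) 1) :=
        Module.finrank_zero_iff.1 (Nat.lt_one_iff.1 (not_le.1 hlt))
      haveI : Subsingleton (Coh.HH X (CohB1.tensorMod N (ClSub.quotMod (f.fiberι p).ker)) 1) :=
        (hhEquiv k eQ 1).toEquiv.subsingleton
      have eP : N ≅ CohB1.tensorMod W (Pp 1) := tensorIso (Iso.refl W)
        ((Scheme.Modules.pullback f).mapIso (tensorUnitLeft A).symm)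
      haveI := hfinN N hN 2
      haveI : Subsingleton (Coh.HH X N 2) := Module.finrank_zero_iff.1
        ((finrank_HH_of_iso (k := k) eP 2).trans (hh2 0))
      have hW2 : Subsingleton (Coh.HH X (CohB1.tensorMod N (ClSub.idealMod (f.fiberι p).ker)) 2) := by
        refine subsingleton_of_forall_eq 0 fun x => ?_
        obtain ⟨c, hc⟩ := (exact_delta_hmap hS 1 x).1 (Subsingleton.elim _ _)
        rw [← hc, show c = 0 from Subsingleton.elim (α := Coh.HH X (CohB1.tensorMod N (ClSub.quotMod (f.fiberι p).ker)) 1) _ _]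
        exact map_zero _
      haveI := hW2
      have h1 := (finrank_HH_of_iso (k := k) eN 2).symm.trans
        (Module.finrank_zero_of_subsingleton (R := k) (M := Coh.HH X (CohB1.tensorMod N (ClSub.idealMod (f.fiberι p).ker)) 2))
      have h0 : Module.finrank k (Coh.HH X (Coh.structureModule X) 0) = 1 :=
        Groth.L22.CurveDeg.h0_structure_eq_one k
      rw [hflip0 2 le_rfl, h0] at h1
      exact one_ne_zero h1
    have h1 := Groth.L03.BlowPt.Rational.euler_twist k hd2 hreg
      ((Groth.Agent.L19.IdealInvertible.isEffCartier_iff _).1 hIFi) hWi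
    have h2 := adj_num k hd hreg hW (f.fiberι p).ker hIFi
    rw [hII, hIW, sub_zero] at h2
    have h3 := Groth.L03.BlowPt.degOn_cast k hIFi hWi
    rw [hIW] at h3
    rw [hW0] at h1
    have h4 : ((Curv2.euler k X (ClSub.quotMod (f.fiberι p).ker) + Groth.L03.BlowPt.degOn k (f.fiberι p).ker W : ℤ) : ℚ) =
        (((g : ℤ) - 1 : ℤ) : ℚ) := by
      push_cast; linarith
    have h5 : Curv2.euler k X (ClSub.quotMod (f.fiberι p).ker) + Groth.L03.BlowPt.degOn k (f.fiberι p).ker W = (g : ℤ) - 1 := by exact_mod_cast h4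
    omega
  -- upper bound: growth of twists
  have hup : rW ≤ g := by
    by_contra hlt
    let E := (Scheme.Modules.pushforward f).obj W
    have hE : FlatMod.IsFinLocFreeOfRank rW E := hrW
    set c : ℤ := Curv2.euler k X (Coh.structureModule X) + Module.finrank k (Coh.HH X (Coh.structureModule X) 1) -
      Curv2.euler k B E
    set n := c.toNat + 1 with hn
    have hAn := Groth.L18.Ample.isInvertible_tensorPow hA n
    -- sections of the twist downstairs
    haveI := Groth.L17.ProjFormula.isIso_θ f (CohB1.tensorPow A n) W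
      (Groth.L16.Existence.isFinLocFree_of_isInvertible hAn)
    let eE : CohB1.tensorMod E (CohB1.tensorPow A n) ≅
        (Scheme.Modules.pushforward f).obj (CohB1.tensorMod W (Pp n)) :=
      tensorComm _ _ ≪≫ asIso (Groth.L17.ClosedPush.θ f W (CohB1.tensorPow A n)) ≪≫
        (Scheme.Modules.pushforward f).mapIso (tensorComm _ _)
    obtain ⟨q⟩ := nonempty_h0_push k f (CohB1.tensorMod W (Pp n))
    have h0eq : (h k 0 (CohB1.tensorMod E (CohB1.tensorPow A n)) : ℤ) =
        Module.finrank k (Coh.HH X (CohB1.tensorMod W (Pp n)) 0) := by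
      show ((Module.finrank k _ : ℕ) : ℤ) = _
      rw [finrank_HH_of_iso eE 0, q.finrank_eq]
    have hb := Groth.L22.CurveDeg.deg_tensor_locFree (k := k) hdB.le hE
      (Groth.L12.FinCov.isFinLocFreeOfRank_one_of_isInvertible hAn)
    rw [Groth.L21.Duality.deg_tensorPow hdB hA, hdegA, Curv2.deg, Curv2.deg] at hb
    have hbe := Groth.L21.RR.euler_eq k hdB.le (CohB1.tensorMod E (CohB1.tensorPow A n))
    have hs := euler_three k hd2 (CohB1.tensorMod W (Pp n))
    have h2 : Module.finrank k (Coh.HH X (CohB1.tensorMod W (Pp n)) 2) = 0 := hh2 _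
    have h1 : Module.finrank k (Coh.HH X (CohB1.tensorMod W (Pp n)) 1) =
        Module.finrank k (Coh.HH X (Pm n) 1) := hflip (Pm n) (Pp n) (hPm _) (einv _) 1 one_le_two
    have h3 := hh1 n
    have h4 : Curv2.euler k X (CohB1.tensorMod W (Pp n)) =
        Curv2.euler k X (Coh.structureModule X) + (n : ℤ) * ((g : ℤ) - 1) := by
      exact_mod_cast hχ n
    have h5 : (n : ℤ) * ((g : ℤ) + 1) ≤ (n : ℤ) * rW :=
      mul_le_mul_of_nonneg_left (by omega) (Int.natCast_nonneg n)
    rw [h2, h1] at hs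
    push_cast at hb hs
    have h6 : c + 1 ≤ (n : ℤ) := by
      rw [hn]; push_cast; linarith [Int.self_le_toNat c]
    nlinarith
  omega

end Groth.L03.SurfFib.RelCanRank
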