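import Groth.Agent.L03.SurfAdj.Vertical
import Groth.Agent.L03.SurfNum.NegDef
import Groth.Agent.L03.BlowPt.CurveProd
import Groth.Agent.L03.BlowPt.RationalConfig
import Groth.Agent.L03.BlowPt.Ramanujam
import Groth.Agent.L16.Connected.Fibre
import Groth.Agent.L23.SchKer

/-!
# The curves of a fibre of a surface over a curve (Zariski's lemma)
-/

set_option autoImplicit false
set_option backward.isDefEq.respectTransparency false
set_option linter.style.haveILetI false
set_option linter.unusedSectionVars false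
universe u

open CategoryTheory CategoryTheory.Limits AlgebraicGeometry TopologicalSpace
open Groth.L22 Groth.L22.Inter Groth.L22.Nef Groth.L22.Big Groth.L03.SurfNum

noncomputable section

namespace Groth.L03.SurfFib.Zariski

/-- A vector of nonnegative square in a connected configuration with a positive null vector is a multiple of it. -/
theorem multiple_of_null {ι K : Type*} [Fintype ι] [Field K] [LinearOrder K] [IsStrictOrderedRing K]
    (G : ι → ι → K) (hsymm : ∀ i j, G i j = G j i) (hoff : ∀ i j, i ≠ j → 0 ≤ G i j)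
    (hconn : Groth.L03.SurfAmple.Graph.Conn G Finset.univ) (m : ι → K) (hm : ∀ i, 0 < m i)
    (hrow : ∀ i, ∑ j, G i j * m j = 0) (a : ι → K) :
    ∑ i, ∑ j, a i * a j * G i j ≤ 0 ∧
      (∑ i, ∑ j, a i * a j * G i j = 0 → ∀ i j, a i * m j = a j * m i) := by
  classical
  set u : ι → K := fun i => a i / m i
  have hu : ∀ i, a i = m i * u i := fun i => (mul_div_cancel₀ _ (hm i).ne').symm
  set P : ι → ι → K := fun i j => G i j * m i * m j
  have hP : ∀ i j, 0 ≤ P i j * (u i - u j) ^ 2 := fun i j => by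
    by_cases hij : i = j
    · subst hij; simp
    · exact mul_nonneg (mul_nonneg (mul_nonneg (hoff i j hij) (hm i).le) (hm j).le) (sq_nonneg _)
  have e1 : ∀ i, ∑ j, P i j * u i ^ 2 = 0 := fun i => by
    calc ∑ j, P i j * u i ^ 2 = (∑ j, G i j * m j) * (m i * u i ^ 2) := by
          rw [Finset.sum_mul]
          exact Finset.sum_congr rfl fun j _ => by ring
      _ = 0 := by rw [hrow i, zero_mul]
  have e2 : ∑ i, ∑ j, P i j * u j ^ 2 = 0 := by
    rw [Finset.sum_comm]
    refine Finset.sum_eq_zero fun i _ => ?_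
    rw [← e1 i]
    exact Finset.sum_congr rfl fun j _ => by simp only [P, hsymm j i]; ring
  have e3 : 2 * (∑ i, ∑ j, a i * a j * G i j) = - ∑ i, ∑ j, P i j * (u i - u j) ^ 2 := by
    have : ∀ i j, P i j * (u i - u j) ^ 2 = P i j * u i ^ 2 + P i j * u j ^ 2 - 2 * (a i * a j * G i j) :=
      fun i j => by rw [hu i, hu j]; ring
    simp only [this, Finset.sum_sub_distrib, Finset.sum_add_distrib, e2, ← Finset.mul_sum]
    simp [e1]
  have h2 : 0 ≤ ∑ i, ∑ j, P i j * (u i - u j) ^ 2 :=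
    Finset.sum_nonneg fun i _ => Finset.sum_nonneg fun j _ => hP i j
  refine ⟨by linarith, fun h0 => ?_⟩
  have h2' : ∑ i, ∑ j, P i j * (u i - u j) ^ 2 = 0 := by linarith
  have hedge : ∀ i j, 0 < G i j → u i = u j := fun i j hij => by
    have h3 := (Finset.sum_eq_zero_iff_of_nonneg fun i _ => Finset.sum_nonneg fun j _ => hP i j).1 h2' i
      (Finset.mem_univ i)
    have h4 := (Finset.sum_eq_zero_iff_of_nonneg fun j _ => hP i j).1 h3 j (Finset.mem_univ j)
    exact sub_eq_zero.1 (pow_eq_zero_iff two_ne_zero |>.1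
      ((mul_eq_zero.1 h4).resolve_left (mul_pos (mul_pos hij (hm i)) (hm j)).ne'))
  have hconst : ∀ i j, u i = u j := fun i₀ j₀ => by
    by_contra hne
    obtain ⟨l, -, hl, j, hj, hlj⟩ := hconn (Finset.univ.filter fun i => u i = u j₀) (Finset.subset_univ _)
      ⟨j₀, by simp⟩ (fun e => hne (by
        have h6 := Finset.mem_univ i₀
        rw [← e, Finset.mem_filter] at h6
        exact h6.2))
    exact hl (Finset.mem_filter.2 ⟨Finset.mem_univ l, (hedge l j hlj).trans (Finset.mem_filter.1 hj).2⟩)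
  intro i j
  rw [hu i, hu j, hconst i j]
  ring

theorem isIso_app {X Y : Scheme.{u}} (f : X ⟶ Y) (h : IsIso (ClSub.unitToPush f)) (U : Y.Opens) :
    IsIso (f.app U) := by
  have h1 := Scheme.Modules.Hom.isIso_iff_isIso_app.1 h U
  rw [ConcreteCategory.isIso_iff_bijective] at h1 ⊢
  exact h1

variable (k : Type u) [Field k] {X : Scheme.{u}} [X.Over (Spec (CommRingCat.of k))]
  [IsProper (X ↘ Spec (CommRingCat.of k))] [IsIntegral X]

theorem ii_ideal_pow (hd : topologicalKrullDim X ≤ (2 : ℕ)) {I : X.IdealSheafData} (hI : BlowUp.IsEffCartierIdeal I)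
    {A : X.Modules} (hA : PicF.IsInvertible A) (n : ℕ) :
    ii k (ClSub.idealMod (I ^ n)) A = (n : ℚ) * ii k (ClSub.idealMod I) A := by
  have h1 := Groth.L03.SurfAmple.ii_ideal_mul k hd (I := (1 : X.IdealSheafData)) (J := 1)
      Groth.L22.Ideals.isEffCartier_top Groth.L22.Ideals.isEffCartier_top hA
  rw [one_mul] at h1
  induction n with
  | zero => rw [pow_zero, Nat.cast_zero, zero_mul]; linarith
  | succ n ih =>
    have hn : BlowUp.IsEffCartierIdeal (I ^ n) := by
      simpa using Groth.L03.BlowPt.isEffCartier_prod (Finset.range n) (D := fun _ => I) fun _ _ => hI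
    rw [pow_succ, Groth.L03.SurfAmple.ii_ideal_mul k hd hn hI hA, ih]
    push_cast
    ring

theorem ii_ideal_prod (hd : topologicalKrullDim X ≤ (2 : ℕ)) {ι : Type*} (T : Finset ι) {D : ι → X.IdealSheafData}
    (hD : ∀ i ∈ T, BlowUp.IsEffCartierIdeal (D i)) {A : X.Modules} (hA : PicF.IsInvertible A) :
    ii k (ClSub.idealMod (∏ i ∈ T, D i)) A = ∑ i ∈ T, ii k (ClSub.idealMod (D i)) A := by
  classical
  induction T using Finset.induction_on with
  | empty =>
    have h1 := Groth.L03.SurfAmple.ii_ideal_mul k hd (I := (1 : X.IdealSheafData)) (J := 1)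
      Groth.L22.Ideals.isEffCartier_top Groth.L22.Ideals.isEffCartier_top hA
    rw [one_mul] at h1
    rw [Finset.prod_empty, Finset.sum_empty]
    linarith
  | insert i T hi ih =>
    have hT : ∀ j ∈ T, BlowUp.IsEffCartierIdeal (D j) := fun j hj => hD j (Finset.mem_insert_of_mem hj)
    rw [Finset.prod_insert hi, Finset.sum_insert hi, Groth.L03.SurfAmple.ii_ideal_mul k hd
      (hD i (Finset.mem_insert_self i T)) (Groth.L03.BlowPt.isEffCartier_prod T hT) hA, ih hT]

theorem ii_prod_pt [Smooth (X ↘ Spec (CommRingCat.of k))] (hd : topologicalKrullDim X = (2 : ℕ)) {T : Finset X}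
    (hT : ∀ y ∈ T, topologicalKrullDim (closure ({y} : Set X)) = (1 : ℕ)) (e : X → ℕ)
    {A : X.Modules} (hA : PicF.IsInvertible A) :
    ii k (ClSub.idealMod (∏ y ∈ T, pt y ^ e y)) A = ∑ y ∈ T, (e y : ℚ) * ii k (ClSub.idealMod (pt y)) A := by
  have hp : ∀ y ∈ T, BlowUp.IsEffCartierIdeal (pt y) := fun y hy =>
    Groth.L03.BlowPt.Ramanujam.isEffCartier_pt k hd (Groth.L03.SurfAdj.reg_of_smooth k) (hT y hy)
  rw [ii_ideal_prod k hd.le T (fun y hy => by
    simpa using Groth.L03.BlowPt.isEffCartier_prod (Finset.range (e y)) (D := fun _ => pt y) fun _ _ => hp y hy) hA]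
  exact Finset.sum_congr rfl fun y hy => ii_ideal_pow k hd.le (hp y hy) hA _

theorem isEffCartier_of_pow {I : X.IdealSheafData} {m : ℕ} (hm : 1 ≤ m) (h : BlowUp.IsEffCartierIdeal (I ^ m)) :
    BlowUp.IsEffCartierIdeal I := by
  obtain ⟨m', rfl⟩ := Nat.exists_eq_add_of_le hm
  rw [add_comm, pow_succ'] at h
  exact Groth.L22.Ideals.isEffCartier_left_of_mul h

variable [IsAlgClosed k] [Smooth (X ↘ Spec (CommRingCat.of k))]
  {B : Scheme.{u}} [B.Over (Spec (CommRingCat.of k))] [IsProper (B ↘ Spec (CommRingCat.of k))]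
  [Smooth (B ↘ Spec (CommRingCat.of k))] [IsIntegral B]
  (hd : topologicalKrullDim X = 2) (hdB : topologicalKrullDim B = 1)
  (f : X ⟶ B) [f.IsOver (Spec (CommRingCat.of k))] [Surjective f]

include k in
theorem ker_fiberι {p : B} (hp : IsClosed ({p} : Set B)) :
    (f.fiberι p).ker = (Scheme.IdealSheafData.vanishingIdeal ⟨{p}, hp⟩).comap f := by
  haveI := Groth.L21.RR.isNoetherian_of_proper (X := B) k
  haveI : IsClosedImmersion (B.fromSpecResidueField p) := isClosed_singleton_iff_isClosedImmersion.mp hp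
  have hker : (B.fromSpecResidueField p).ker = Scheme.IdealSheafData.vanishingIdeal ⟨{p}, hp⟩ := by
    rw [Groth.L23.SchKer.ker_eq_vanishingIdeal]
    congr 1
    refine TopologicalSpace.Closeds.ext ?_
    show closure (Set.range (B.fromSpecResidueField p)) = {p}
    rw [Scheme.range_fromSpecResidueField, hp.closure_eq]
  rw [← hker]
  exact Groth.L17.Thick.ker_of_isPullback (IsPullback.of_hasPullback f (B.fromSpecResidueField p))

include hd hdB in
/-- The curves of a fibre, their multiplicities and their intersection matrix. -/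
theorem fibre_config (hconn : IsIso (ClSub.unitToPush f)) {p : B} (hp : IsClosed ({p} : Set B)) :
    ∃ (T : Finset X) (n : X → ℕ), T.Nonempty ∧
      (∀ y ∈ T, topologicalKrullDim (closure ({y} : Set X)) = (1 : ℕ)) ∧ (∀ y ∈ T, 0 < n y) ∧
      (∀ y : X, f y = p → topologicalKrullDim (closure ({y} : Set X)) = (1 : ℕ) → y ∈ T) ∧
      (∀ y ∈ T, ∀ z ∈ closure ({y} : Set X), f z = p) ∧
      ((f.fiberι p).ker.support : Set X) = f ⁻¹' {p} ∧
      (f.fiberι p).ker = ∏ y ∈ T, pt y ^ n y ∧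
      (∀ i ∈ T, ∑ j ∈ T, ii k (ClSub.idealMod (pt i)) (ClSub.idealMod (pt j)) * (n j : ℚ) = 0) ∧
      (∀ i ∈ T, ∀ j ∈ T, i ≠ j → 0 ≤ ii k (ClSub.idealMod (pt i)) (ClSub.idealMod (pt j))) ∧
      Groth.L03.SurfAmple.Graph.Conn (fun i j : T => ii k (ClSub.idealMod (pt i.1)) (ClSub.idealMod (pt j.1)))
        Finset.univ := by
  classical
  haveI := Groth.L21.RR.isNoetherian_of_proper (X := X) k
  haveI := Groth.L21.RR.isNoetherian_of_proper (X := B) k
  haveI : IsProper (f ≫ (B ↘ Spec (CommRingCat.of k))) := by rw [comp_over]; infer_instance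
  haveI : IsProper f := IsProper.of_comp f (B ↘ Spec (CommRingCat.of k))
  have hd2 : topologicalKrullDim X = (2 : ℕ) := hd.trans Nat.cast_ofNat.symm
  have hreg := Groth.L03.SurfAdj.reg_of_smooth k (X := X)
  obtain ⟨hIF, hIq, hsupp, ⟨α⟩⟩ := Groth.L03.SurfNum.fibre_ideal k hdB f hp
  have hFe : BlowUp.IsEffCartierIdeal (f.fiberι p).ker :=
    (Groth.Agent.L19.IdealInvertible.isEffCartier_iff _).1 hIF
  set T := (Groth.L03.BlowPt.finite_curves k hd2 hreg hFe).toFinset with hTdef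
  have hmem : ∀ y, y ∈ T ↔ f y = p ∧ topologicalKrullDim (closure ({y} : Set X)) = (1 : ℕ) := fun y => by
    rw [hTdef, Set.Finite.mem_toFinset, Set.mem_setOf_eq, hsupp, Set.mem_preimage, Set.mem_singleton_iff]
  have hT : ∀ y ∈ T, topologicalKrullDim (closure ({y} : Set X)) = (1 : ℕ) := fun y hy => ((hmem y).1 hy).2
  have hvert : ∀ y ∈ T, ∀ z ∈ closure ({y} : Set X), f z = p := fun y hy z hz =>
    closure_minimal (t := f ⁻¹' {p}) (Set.singleton_subset_iff.2 ((hmem y).1 hy).1) (hp.preimage f.continuous) hz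
  obtain ⟨n, hn⟩ := Groth.L03.BlowPt.exists_factor k hd2 hreg hFe hT
    (fun y hy hy1 => (hmem y).2 ⟨by rw [hsupp] at hy; exact hy, hy1⟩)
  have hsuppT : ∀ z : X, f z = p → ∃ y ∈ T, 0 < n y ∧ z ∈ closure ({y} : Set X) := fun z hz => by
    have h1 : z ∈ ((f.fiberι p).ker.support : Set X) := by rw [hsupp]; exact hz
    rw [hn, Groth.L03.BlowPt.mem_support_prod] at h1
    obtain ⟨y, hy, hzy⟩ := h1
    refine ⟨y, hy, Nat.pos_of_ne_zero fun h0 => ?_, (Groth.L18.support_vanishingIdeal _).le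
      (Groth.L03.BlowPt.support_pow_subset _ _ hzy)⟩
    rw [h0, pow_zero, Scheme.IdealSheafData.one_eq_top, Scheme.IdealSheafData.support_top] at hzy
    exact hzy
  have hpos : ∀ y ∈ T, 0 < n y := fun y hy => by
    obtain ⟨y', hy', hn', hyy⟩ := hsuppT y ((hmem y).1 hy).1
    rcases eq_or_ne y y' with rfl | hne
    · exact hn'
    · exact absurd ((Groth.L18.support_vanishingIdeal _).ge hyy)
        (Groth.L03.BlowPt.not_mem_pt_of_ne k hd2 hreg (hT y hy) (hT y' hy') hne)
  have hinv : ∀ y ∈ T, PicF.IsInvertible (ClSub.idealMod (pt y)) := fun y hy =>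
    Groth.L03.BlowPt.inv_curve (k := k) hd2 hreg (hT y hy)
  have hoff : ∀ i ∈ T, ∀ j ∈ T, i ≠ j → 0 ≤ ii k (ClSub.idealMod (pt i)) (ClSub.idealMod (pt j)) := by
    intro i hi j hj hij
    haveI := isIntegral_pt i
    haveI := isIntegral_pt j
    refine Gram.curve_pair_nonneg k hd2.le (pt i) (pt j) ?_ ?_ (hinv i hi) (hinv j hj) fun e => hij ?_
    · rw [Groth.L18.support_vanishingIdeal]; exact (hT i hi).trans Nat.cast_one
    · rw [Groth.L18.support_vanishingIdeal]; exact (hT j hj).trans Nat.cast_one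
    · have h1 := congrArg (fun I : X.IdealSheafData => (I.support : Set X)) e
      simp only [Groth.L18.support_vanishingIdeal] at h1
      exact (inseparable_iff_closure_eq.2 h1).eq
  refine ⟨T, n, ?_, hT, hpos, fun y h1 h2 => (hmem y).2 ⟨h1, h2⟩, hvert, hsupp, hn, fun i hi => ?_, hoff, ?_⟩
  · obtain ⟨z, hz⟩ := Surjective.surj (f := f) p
    obtain ⟨y, hy, -, -⟩ := hsuppT z hz
    exact ⟨y, hy⟩
  · have h0 : ii k (ClSub.idealMod (f.fiberι p).ker) (ClSub.idealMod (pt i)) = 0 := by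
      haveI := isIntegral_pt i
      refine (ii_congr k α _).symm.trans (Groth.L03.SurfAdj.ii_pullback_vertical k f hIq (pt i) ?_ (hinv i hi)
        (c := p) fun x hx => hvert i hi x ((Groth.L18.support_vanishingIdeal _).le hx))
      rw [Groth.L18.support_vanishingIdeal]; exact (hT i hi).trans Nat.cast_one
    rw [hn, ii_prod_pt k hd2 hT n (hinv i hi)] at h0
    rw [← h0]
    exact Finset.sum_congr rfl fun j _ => by rw [ii_comm k (ClSub.idealMod (pt i)), mul_comm]
  · intro S _ hSne hSuniv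
    haveI : IsProper f := inferInstance
    haveI : ConnectedSpace (f.fiber p) := by
      haveI := Groth.L16.Connected.geometricallyConnected f (isIso_app f hconn)
      infer_instance
    have hC : _root_.IsPreconnected (f ⁻¹' {p} : Set X) := by
      rw [← Scheme.Hom.range_fiberι]
      exact isPreconnected_range (f.fiberι p).continuous
    obtain ⟨j₀, hj₀⟩ := hSne
    obtain ⟨i₀, hi₀⟩ : ∃ i, i ∉ S := by
      by_contra h
      push Not at h
      exact hSuniv (Finset.eq_univ_iff_forall.2 h)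
    let cl : Finset T → Set X := fun U => ⋃ y ∈ U, closure ({y.1} : Set X)
    have hcl : ∀ U, IsClosed (cl U) := fun U =>
      U.finite_toSet.isClosed_biUnion fun _ _ => isClosed_closure
    obtain ⟨z, -, hz1, hz2⟩ := (isPreconnected_closed_iff.1 hC) (cl S) (cl Sᶜ) (hcl _) (hcl _)
      (fun z hz => by
        obtain ⟨y, hy, -, hzy⟩ := hsuppT z hz
        by_cases h : (⟨y, hy⟩ : T) ∈ S
        · exact Or.inl (Set.mem_biUnion h hzy)
        · exact Or.inr (Set.mem_biUnion (Finset.mem_compl.2 h) hzy))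
      ⟨j₀.1, ((hmem _).1 j₀.2).1, Set.mem_biUnion hj₀ (subset_closure rfl)⟩
      ⟨i₀.1, ((hmem _).1 i₀.2).1, Set.mem_biUnion (Finset.mem_compl.2 hi₀) (subset_closure rfl)⟩
    obtain ⟨j, hjS, hzj⟩ := Set.mem_iUnion₂.1 hz1
    obtain ⟨i, hiS, hzi⟩ := Set.mem_iUnion₂.1 hz2
    have hiS' : i ∉ S := Finset.mem_compl.1 hiS
    have hij : j.1 ≠ i.1 := fun e => hiS' (Subtype.ext e ▸ hjS)
    exact ⟨i, Finset.mem_univ i, hiS', j, hjS, ii_pos_of_meet k hd2 (hinv i.1 i.2) (hT j.1 j.2) (hinv j.1 j.2)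
      (Groth.L03.BlowPt.not_mem_pt_of_ne k hd2 hreg (hT j.1 j.2) (hT i.1 i.2) hij) hzj
      ((Groth.L18.support_vanishingIdeal _).ge hzi)⟩

include hd hdB in
/-- A divisor carried by a fibre and not proportional to it has negative square. -/
theorem fibre_factor_pos (hconn : IsIso (ClSub.unitToPush f)) {p : B} (hp : IsClosed ({p} : Set B))
    {m : ℕ} (hm : 1 ≤ m) {IE IA IB : X.IdealSheafData} (hpow : IE ^ m = (f.fiberι p).ker)
    (hprim : ∀ n : ℕ, 2 ≤ n → ∀ J : X.IdealSheafData, BlowUp.IsEffCartierIdeal J → J ^ n ≠ IE)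
    (hA : IA ≠ ⊤) (hB : IB ≠ ⊤) (hAB : IA * IB = IE) :
    0 < ii k (ClSub.idealMod IA) (ClSub.idealMod IB) := by
  classical
  have hd2 : topologicalKrullDim X = (2 : ℕ) := hd.trans Nat.cast_ofNat.symm
  haveI := Groth.L21.RR.isNoetherian_of_proper (X := X) k
  have hreg := Groth.L03.SurfAdj.reg_of_smooth k (X := X)
  obtain ⟨T, n, -, hT, hn, hTmem, -, hsupp, hF, hrow, hoff, hc⟩ := fibre_config k hd hdB f hconn hp
  obtain ⟨hIF, -, -, -⟩ := Groth.L03.SurfNum.fibre_ideal k hdB f hp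
  have hEe : BlowUp.IsEffCartierIdeal IE := isEffCartier_of_pow hm
    (by rw [hpow]; exact (Groth.Agent.L19.IdealInvertible.isEffCartier_iff _).1 hIF)
  have hAe : BlowUp.IsEffCartierIdeal IA := Groth.L22.Ideals.isEffCartier_left_of_mul (J := IB) (hAB ▸ hEe)
  have hBe : BlowUp.IsEffCartierIdeal IB :=
    Groth.L22.Ideals.isEffCartier_left_of_mul (J := IA) (mul_comm IA IB ▸ hAB ▸ hEe)
  obtain ⟨m', rfl⟩ := Nat.exists_eq_add_of_le hm
  have hsub : ∀ I J : X.IdealSheafData, I * J = IE → ∀ z ∈ (I.support : Set X), f z = p := fun I J h z hz => by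
    have h1 : z ∈ ((f.fiberι p).ker.support : Set X) := by
      rw [← hpow, ← h, add_comm 1 m', pow_succ', Scheme.IdealSheafData.support_mul, Scheme.IdealSheafData.support_mul]
      exact Or.inl (Or.inl hz)
    rw [hsupp] at h1
    exact h1
  obtain ⟨a, ha⟩ := Groth.L03.BlowPt.exists_factor k hd2 hreg hAe hT
    (fun y hy hy1 => hTmem y (hsub IA IB hAB y hy) hy1)
  obtain ⟨b, hb⟩ := Groth.L03.BlowPt.exists_factor k hd2 hreg hBe hT
    (fun y hy hy1 => hTmem y (hsub IB IA (by rw [mul_comm, hAB]) y hy) hy1)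
  have hfac : ∏ y ∈ T, pt y ^ ((1 + m') * (a y + b y)) = ∏ y ∈ T, pt y ^ n y := by
    rw [← hF, ← hpow, ← hAB, ha, hb, ← Finset.prod_mul_distrib, ← Finset.prod_pow]
    exact Finset.prod_congr rfl fun y _ => by rw [← pow_add, ← pow_mul, mul_comm]
  have hnab : ∀ y ∈ T, n y = (1 + m') * (a y + b y) := fun y hy => by
    obtain ⟨U, hU, hyU, -⟩ := AlgebraicGeometry.exists_isAffineOpen_mem_and_subset (x := y) (U := ⊤) trivial
    have h1 := congrArg (fun I => Groth.L03.BlowPt.stalkIdeal I ⟨U, hU⟩ hyU) hfac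
    rw [Groth.L03.BlowPt.stalkIdeal_prod_pt k hd2 hreg hT _ hy, Groth.L03.BlowPt.stalkIdeal_prod_pt k hd2 hreg hT _ hy] at h1
    exact (Groth.L03.BlowPt.maximalIdeal_pow_inj k hd2 hreg (hT y hy) h1).symm
  set G : T → T → ℚ := fun i j => ii k (ClSub.idealMod (pt i.1)) (ClSub.idealMod (pt j.1))
  have hN : ∀ i : T, (0 : ℚ) < (a i.1 : ℚ) + b i.1 := fun i => by
    have := hn i.1 i.2
    rw [hnab i.1 i.2] at this
    exact_mod_cast Nat.pos_of_mul_pos_left this
  have hrow' : ∀ i : T, ∑ j : T, G i j * ((a j.1 : ℚ) + b j.1) = 0 := fun i => by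
    have h1 := hrow i.1 i.2
    rw [← Finset.sum_coe_sort] at h1
    have h2 : ((1 + m' : ℕ) : ℚ) * ∑ j : T, G i j * ((a j.1 : ℚ) + b j.1) = 0 := by
      rw [Finset.mul_sum, ← h1]
      refine Finset.sum_congr rfl fun j _ => ?_
      rw [hnab j.1 j.2]
      push_cast
      ring
    exact (mul_eq_zero.1 h2).resolve_left (by positivity)
  have hinv : ∀ y ∈ T, PicF.IsInvertible (ClSub.idealMod (pt y)) := fun y hy =>
    Groth.L03.BlowPt.inv_curve (k := k) hd2 hreg (hT y hy)
  have hBi : PicF.IsInvertible (ClSub.idealMod IB) := (Groth.Agent.L19.IdealInvertible.isEffCartier_iff _).2 hBe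
  have hval : ii k (ClSub.idealMod IA) (ClSub.idealMod IB) = - ∑ i : T, ∑ j : T, (a i.1 : ℚ) * a j.1 * G i j := by
    rw [ha, ii_prod_pt k hd2 hT a hBi, ← Finset.sum_coe_sort, ← Finset.sum_neg_distrib]
    refine Finset.sum_congr rfl fun i _ => ?_
    rw [ii_comm k (ClSub.idealMod (pt i.1)), hb, ii_prod_pt k hd2 hT b (hinv i.1 i.2), ← Finset.sum_coe_sort]
    have h3 := hrow' i
    have h4 : ∑ j : T, (b j.1 : ℚ) * ii k (ClSub.idealMod (pt j.1)) (ClSub.idealMod (pt i.1)) =
        - ∑ j : T, (a j.1 : ℚ) * G i j := by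
      rw [eq_neg_iff_add_eq_zero, ← Finset.sum_add_distrib, ← h3]
      refine Finset.sum_congr rfl fun j _ => ?_
      rw [ii_comm k (ClSub.idealMod (pt j.1))]
      ring
    rw [h4, mul_neg, Finset.mul_sum]
    congr 1
    exact Finset.sum_congr rfl fun j _ => by ring
  obtain ⟨hle, heq⟩ := multiple_of_null G (fun i j => ii_comm k _ _) (fun i j h => hoff i.1 i.2 j.1 j.2
    fun e => h (Subtype.ext e)) hc (fun i => (a i.1 : ℚ) + b i.1) hN hrow' (fun i => (a i.1 : ℚ))
  rw [hval]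
  refine neg_pos.2 (lt_of_le_of_ne hle fun h0 => ?_)
  have hprop : ∀ i j : T, a i.1 * (a j.1 + b j.1) = a j.1 * (a i.1 + b i.1) := fun i j => by
    exact_mod_cast heq h0 i j
  have hex : ∀ (I : X.IdealSheafData) (e : X → ℕ), I = ∏ y ∈ T, pt y ^ e y → I ≠ ⊤ → ∃ y ∈ T, 0 < e y := by
    intro I e he hne
    by_contra h
    push Not at h
    refine hne (he.trans ?_)
    rw [Finset.prod_eq_one fun y hy => by rw [Nat.le_zero.1 (h y hy), pow_zero], Scheme.IdealSheafData.one_eq_top]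
  obtain ⟨y₀, hy₀, ha₀⟩ := hex IA a ha hA
  obtain ⟨y₁, hy₁, hb₁⟩ := hex IB b hb hB
  set q : ℚ := (a y₀ : ℚ) / ((a y₀ : ℚ) + b y₀)
  have hq : ∀ i : T, (a i.1 : ℚ) = q * (((a i.1 + b i.1 : ℕ)) : ℚ) := fun i => by
    have h1 : ((a i.1 * (a y₀ + b y₀) : ℕ) : ℚ) = ((a y₀ * (a i.1 + b i.1) : ℕ) : ℚ) := by
      exact_mod_cast hprop i ⟨y₀, hy₀⟩
    rw [div_mul_eq_mul_div, eq_div_iff (hN ⟨y₀, hy₀⟩).ne']
    push_cast at h1 ⊢
    linarith
  have hden : q.den ≠ 1 := fun h1 => by
    have hq0 : 0 < q := div_pos (by exact_mod_cast ha₀) (hN ⟨y₀, hy₀⟩)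
    have hq1 : q < 1 := by
      have h2 := hq ⟨y₁, hy₁⟩
      push_cast at h2
      have h3 : (0 : ℚ) < b y₁ := by exact_mod_cast hb₁
      by_contra h4
      nlinarith
    rw [← Rat.coe_int_num_of_den_eq_one h1] at hq0 hq1
    have : 0 < q.num := by exact_mod_cast hq0
    have : q.num < 1 := by exact_mod_cast hq1
    omega
  have hdvd : ∀ y ∈ T, q.den ∣ a y + b y := fun y hy => by
    have h1 : ((q.num * ((a y + b y : ℕ) : ℤ) : ℤ) : ℚ) = (((a y : ℤ) * q.den : ℤ) : ℚ) := by
      have h2 := hq ⟨y, hy⟩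
      have h3 := Rat.mul_den_eq_num q
      push_cast at h2 ⊢
      rw [← h3]
      linear_combination (-(q.den : ℚ)) * h2
    have h2 : (q.den : ℤ) ∣ q.num * ((a y + b y : ℕ) : ℤ) :=
      ⟨a y, by rw [mul_comm (q.den : ℤ)]; exact_mod_cast h1⟩
    exact Int.natCast_dvd_natCast.1 (Int.dvd_of_dvd_mul_right_of_gcd_one h2 (by
      rw [Int.gcd_comm]; exact q.reduced.gcd_eq_one))
  refine hprim q.den (by have := q.den_pos; omega) (∏ y ∈ T, pt y ^ ((a y + b y) / q.den))
    (Groth.L03.BlowPt.isEffCartier_prod T fun y hy => ?_) ?_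
  · simpa using Groth.L03.BlowPt.isEffCartier_prod (Finset.range ((a y + b y) / q.den)) (D := fun _ => pt y)
      fun _ _ => Groth.L03.BlowPt.Ramanujam.isEffCartier_pt k hd2 hreg (hT y hy)
  · rw [← Finset.prod_pow, ← hAB, ha, hb, ← Finset.prod_mul_distrib]
    exact Finset.prod_congr rfl fun y hy => by rw [← pow_add, ← pow_mul, Nat.div_mul_cancel (hdvd y hy)]

end Groth.L03.SurfFib.Zariski
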