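import Groth.Agent.L03.SurfFib.H1P1
import Groth.Agent.L03.Euler.Basic
import Groth.Agent.L21.RR.Twist
import Groth.Agent.L16.NegPow.Gen
import Groth.Agent.L15.Ref.Tensor

/-!
A bundle on the line whose first cohomology does not drop under restriction to a point is nonnegative.
-/

set_option autoImplicit false
set_option linter.style.haveILetI false
set_option linter.unusedSectionVars false
set_option backward.isDefEq.respectTransparency false

universe u

open CategoryTheory CategoryTheory.Limits AlgebraicGeometry TopologicalSpace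
open Groth.L16.CohLinear (hmap hmap_comp exact_hmap_hmap exact_hmap_delta exact_delta_hmap delta overLin)
open Groth.L00.Tensor (tensorRightF tensorIso tensorComm tensorUnitLeft tensorUnitRight)
open Groth.L21.P1 (sumO h_sumO h_O isCoh_O)
open Groth.L21.RR (h)
open Groth.L22.Reg (O')

noncomputable section

namespace Groth.L03.SurfFib

variable {k : Type u} [Field k]

instance isProper_line : IsProper (CohB1.ProjSpace 1 k ↘ Spec (CommRingCat.of k)) :=
  inferInstanceAs (IsProper (CohB1.ProjSpace.toSpec 1 k))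

attribute [local instance] preservesBinaryBiproducts_of_preservesBinaryCoproducts

theorem nonempty_sumO_tensor {r : ℕ} (d : Fin r → ℤ) (a : ℤ) :
    Nonempty (CohB1.tensorMod (sumO k d) (O' 1 k a) ≅ sumO k fun l => d l + a) := by
  haveI := Groth.L00.Tensor.preservesColimits_tensorRightF (O' 1 k a)
  haveI : (tensorRightF (O' 1 k a)).Additive := Functor.additive_of_preservesBinaryBiproducts _
  exact ⟨(tensorRightF (O' 1 k a)).mapBiproduct (fun l => Groth.L21.P1.O k (d l)) ≪≫
    biproduct.mapIso fun l => (Groth.L22.Reg.nonempty_O_add (n := 1) (R := k) (rfl : d l + a = _)).some⟩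

theorem finrank_line_iso {M N : (CohB1.ProjSpace 1 k).Modules} (e : M ≅ N) (p : ℕ) :
    h k p M = h k p N := Groth.L03.Euler.finrank_HH_of_iso (k := k) e p

/-- If twisting down does not increase `h¹`, both first cohomology groups vanish. -/
theorem h1_zero_of_le {r : ℕ} {G : (CohB1.ProjSpace 1 k).Modules} (hG : FlatMod.IsFinLocFreeOfRank r G)
    (hle : h k 1 (CohB1.tensorMod G (O' 1 k (-1))) ≤ h k 1 G) :
    Subsingleton (Coh.HH (CohB1.ProjSpace 1 k) G 1) ∧
      Subsingleton (Coh.HH (CohB1.ProjSpace 1 k) (CohB1.tensorMod G (O' 1 k (-1))) 1) := by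
  obtain ⟨d, -, ⟨e⟩⟩ := Groth.L21.P1.exists_splitting k hG
  obtain ⟨e'⟩ := nonempty_sumO_tensor (k := k) d (-1)
  have hG' : h k 1 G = ∑ l, (-(d l) - 1).toNat := by
    rw [← finrank_line_iso (k := k) e 1, h_sumO]
    exact Finset.sum_congr rfl fun l _ => (h_O k (d l)).2
  let eT : CohB1.tensorMod G (O' 1 k (-1)) ≅ sumO k fun l => d l + -1 :=
    (tensorRightF (O' 1 k (-1))).mapIso e.symm ≪≫ e'
  have hT : h k 1 (CohB1.tensorMod G (O' 1 k (-1))) = ∑ l, (-(d l + -1) - 1).toNat := by
    rw [finrank_line_iso (k := k) eT 1, h_sumO]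
    exact Finset.sum_congr rfl fun l _ => (h_O k _).2
  have heq : ∀ l ∈ Finset.univ, (-(d l) - 1).toNat = (-(d l + -1) - 1).toNat :=
    (Finset.sum_eq_sum_iff_of_le fun l _ => by omega).1 (le_antisymm (Finset.sum_le_sum fun l _ => by omega)
      (by rw [← hT, ← hG']; exact hle))
  have hd : ∀ l, 0 ≤ d l := fun l => by
    have := heq l (Finset.mem_univ l)
    omega
  haveI := Groth.L21.RR.isNoetherian_of_proper (X := CohB1.ProjSpace 1 k) k
  have hcG : Coh.IsCoh G :=
    Groth.L16.NegPow.isCoh_of_isFinLocFree (fun y => (hG y).imp fun U h => ⟨r, h⟩)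
  have hcT : Coh.IsCoh (CohB1.tensorMod G (O' 1 k (-1))) :=
    Groth.L15.Ref.isCoh_tensorMod hcG (Groth.L21.P1.isCoh_O k (-1))
  haveI := Groth.L21.RR.finite_HH' k hcG 1
  haveI := Groth.L21.RR.finite_HH' k hcT 1
  refine ⟨Module.finrank_zero_iff.1 (hG'.trans (Finset.sum_eq_zero fun l _ => ?_)),
    Module.finrank_zero_iff.1 (hT.trans (Finset.sum_eq_zero fun l _ => ?_))⟩ <;>
  · have := hd l
    omega

/-- The ideal of a closed point of the line. -/
theorem nonempty_idealMod_point [IsAlgClosed k] {q : CohB1.ProjSpace 1 k}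
    (hq : IsClosed ({q} : Set (CohB1.ProjSpace 1 k))) :
    BlowUp.IsEffCartierIdeal (Scheme.IdealSheafData.vanishingIdeal ⟨{q}, hq⟩) ∧
      Nonempty (ClSub.idealMod (Scheme.IdealSheafData.vanishingIdeal ⟨{q}, hq⟩) ≅ O' 1 k (-1)) := by
  haveI : IsIntegral (CohB1.ProjSpace 1 k) := Groth.L16.ProjSpace.isIntegral 1 k
  haveI : Smooth (CohB1.ProjSpace 1 k ↘ Spec (CommRingCat.of k)) :=
    inferInstanceAs (Smooth (CohB1.ProjSpace.toSpec 1 k))
  have hdC : topologicalKrullDim (CohB1.ProjSpace 1 k) = 1 := by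
    rw [Groth.L16.ProjSpace.topologicalKrullDim_eq_of_field 1 k]; norm_num
  have hreg := Groth.L07.SyntKoszul.isRegularLocalRing_of_smooth (CohB1.ProjSpace 1 k ↘ Spec (CommRingCat.of k)) q
  obtain ⟨hinv, heul⟩ := Groth.L21.RR.idealMod_point_pow k hdC hq hreg 1
  rw [pow_one] at hinv heul
  refine ⟨(Groth.Agent.L19.IdealInvertible.isEffCartier_iff _).1 hinv, ?_⟩
  obtain ⟨d, -, ⟨e⟩⟩ := Groth.L21.P1.exists_splitting k
    (Groth.L12.FinCov.isFinLocFreeOfRank_one_of_isInvertible hinv)
  let e1 : sumO k d ≅ Groth.L21.P1.O k (d 0) := biproductUniqueIso (fun l : Fin 1 => Groth.L21.P1.O k (d l))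
  rw [Groth.L21.RR.finrank_residueField_eq_one k hq, Groth.L21.RR.euler_congr k (e.symm ≪≫ e1)] at heul
  erw [Groth.L21.P1.euler_O k] at heul
  obtain ⟨z⟩ := Groth.L22.Reg.nonempty_O_zero 1 k
  have h0 : Curv2.euler k (CohB1.ProjSpace 1 k) (Coh.structureModule _) = 1 := by
    rw [← Groth.L21.RR.euler_congr k z]
    exact (Groth.L21.P1.euler_O k 0).trans (zero_add 1)
  rw [h0] at heul
  have : d 0 = -1 := by omega
  exact ⟨e.symm ≪≫ e1 ≪≫ eqToIso (by rw [this]; rfl)⟩

variable {X : Scheme.{u}} [X.Over (Spec (CommRingCat.of k))] [IsProper (X ↘ Spec (CommRingCat.of k))]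
  [IsIntegral X] [HasInjectiveResolutions X.Modules] [IsAlgClosed k]
  (hd : topologicalKrullDim X = 2) (π : X ⟶ CohB1.ProjSpace 1 k)
  [π.IsOver (Spec (CommRingCat.of k))] [Surjective π]

include hd in
/-- If restriction of sections to a fibre is onto, there is no first cohomology. -/
theorem h1_vanish {L : X.Modules} (hL : PicF.IsInvertible L) (hR1 : IsZero ((Coh.Rpush π 1).obj L))
    {q : CohB1.ProjSpace 1 k} (hq : IsClosed ({q} : Set (CohB1.ProjSpace 1 k))) {I : X.IdealSheafData}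
    (hI : I = (Scheme.IdealSheafData.vanishingIdeal ⟨{q}, hq⟩).comap π)
    (hres : Module.finrank k (Coh.HH X L 0) = Module.finrank k (Coh.HH X (CohB1.tensorMod L (ClSub.idealMod I)) 0) +
      Module.finrank k (Coh.HH X (CohB1.tensorMod (ClSub.quotMod I) L) 0)) :
    Subsingleton (Coh.HH X L 1) ∧ Subsingleton (Coh.HH X (CohB1.tensorMod L (ClSub.idealMod I)) 1) ∧
      Subsingleton (Coh.HH (CohB1.ProjSpace 1 k) (CohB1.tensorMod ((Coh.push π).obj L) (O' 1 k (-1))) 1) := by
  haveI := Groth.L21.RR.isNoetherian_of_proper (X := X) k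
  haveI := Groth.L21.RR.isNoetherian_of_proper (X := CohB1.ProjSpace 1 k) k
  haveI : (CohB1.ProjSpace 1 k).IsSeparated :=
    ⟨by rw [← terminal.comp_from (CohB1.ProjSpace 1 k ↘ Spec (CommRingCat.of k))]; infer_instance⟩
  haveI : IsProper π := by
    haveI : IsProper (π ≫ (CohB1.ProjSpace 1 k ↘ Spec (CommRingCat.of k))) := by rw [comp_over]; infer_instance
    exact IsProper.of_comp π (CohB1.ProjSpace 1 k ↘ Spec (CommRingCat.of k))
  haveI : IsIntegral (CohB1.ProjSpace 1 k) := Groth.L16.ProjSpace.isIntegral 1 k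
  haveI : Smooth (CohB1.ProjSpace 1 k ↘ Spec (CommRingCat.of k)) :=
    inferInstanceAs (Smooth (CohB1.ProjSpace.toSpec 1 k))
  have hdC : topologicalKrullDim (CohB1.ProjSpace 1 k) = 1 := by
    rw [Groth.L16.ProjSpace.topologicalKrullDim_eq_of_field 1 k]; norm_num
  obtain ⟨hcar, ⟨ei⟩⟩ := nonempty_idealMod_point hq
  have hgen : π (genericPoint X) ∉ (Scheme.IdealSheafData.vanishingIdeal ⟨{q}, hq⟩).support := fun h => by
    rw [← SetLike.mem_coe, Scheme.IdealSheafData.coe_support_vanishingIdeal] at h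
    have h' : π (genericPoint X) = q := by simpa [hq.closure_eq] using h
    obtain ⟨x, hx⟩ := π.surjective (genericPoint (CohB1.ProjSpace 1 k))
    have hsp : π (genericPoint X) ⤳ π x := (genericPoint_specializes x).map π.continuous
    rw [h', hx] at hsp
    exact Groth.L03.SurfNum.genericPoint_notMem_point k hdC hq (Set.mem_singleton_iff.2 (hsp.mem_closed hq rfl))
  obtain ⟨-, ⟨ep⟩⟩ := Groth.L03.BlowPt.nonempty_pullback_idealMod π hcar hgen
  subst hI
  let I := (Scheme.IdealSheafData.vanishingIdeal ⟨{q}, hq⟩).comap π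
  let N := CohB1.tensorMod L (ClSub.idealMod I)
  have hNinv : PicF.IsInvertible N := Groth.L18.GenLoc.isInvertible_tensor hL
    (Groth.L18.Ample.isInvertible_of_iso ep (Groth.L18.Ample.isInvertible_pullback π
      ((Groth.Agent.L19.IdealInvertible.isEffCartier_iff _).2 hcar)))
  let eN : CohB1.tensorMod ((Scheme.Modules.pullback π).obj (O' 1 k (-1))) L ≅ N :=
    tensorIso ((Scheme.Modules.pullback π).mapIso ei.symm ≪≫ ep) (Iso.refl L) ≪≫ tensorComm _ _
  have hO := Groth.L16.Existence.isFinLocFree_of_isInvertible (Groth.L16.ProjTwist.isInvertible_twistProjSpace 1 k (-1 : ℤ))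
  obtain ⟨P1⟩ := Groth.Agent.S0927.result π L (O' 1 k (-1)) hO 1
  obtain ⟨P0⟩ := Groth.Agent.S0927.result π L (O' 1 k (-1)) hO 0
  have hN1 : IsZero ((Coh.Rpush π 1).obj N) :=
    (Functor.map_isZero ((DCoh.tensorBi (X := CohB1.ProjSpace 1 k)).obj (O' 1 k (-1))) hR1).of_iso
      (P1 ≪≫ (Coh.Rpush π 1).mapIso eN).symm
  haveI := Groth.L17.PushQCoh.additive_push π
  let z := fun M : X.Modules => ((Coh.push π).rightDerivedZeroIsoSelf).app M
  let eT : (Coh.push π).obj N ≅ CohB1.tensorMod ((Coh.push π).obj L) (O' 1 k (-1)) :=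
    (z N).symm ≪≫ (P0 ≪≫ (Coh.Rpush π 0).mapIso eN).symm ≪≫ tensorIso (Iso.refl _) (z L) ≪≫ tensorComm _ _
  have hGcoh : Coh.IsCoh ((Coh.push π).obj L) :=
    Groth.L16.Exist.isCoh_pushforward π (Groth.L16.ProperFinite.isCoh_of_isInvertible hL)
  have hG := Groth.L21.Bundle.locFree_of_torsionFree
    (fun x => Groth.L07.SyntKoszul.isRegularLocalRing_of_smooth (CohB1.ProjSpace 1 k ↘ Spec (CommRingCat.of k)) x)
    hdC.le hGcoh (isTorsionFree_push π hL)
  -- the restriction sequence
  have hS := Groth.L03.Euler.shortExact_tensor hL (Groth.L21.RR.shortExact_idealSeq I)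
  let f0 := Groth.L21.RR.hk k ((tensorRightF L).map (ClSub.idealModι I)) 0
  let g0 := Groth.L21.RR.hk k ((tensorRightF L).map (ClSub.toSubscheme I)) 0
  haveI : Module.Finite k (Coh.HH X ((tensorRightF L).obj (Coh.structureModule X)) 0) :=
    Groth.L21.RR.finite_HH' k (Groth.L15.Ref.isCoh_tensorMod (Groth.L16.CohClosedPush.isCoh_structure)
      (Groth.L16.ProperFinite.isCoh_of_isInvertible hL)) 0
  haveI : Module.Finite k (Coh.HH X ((tensorRightF L).obj (ClSub.idealMod I)) 0) :=
    Groth.L21.RR.finite_HH' k (Groth.L15.Ref.isCoh_tensorMod (Groth.L21.RR.isCoh_idealMod I)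
      (Groth.L16.ProperFinite.isCoh_of_isInvertible hL)) 0
  haveI : Module.Finite k (Coh.HH X ((tensorRightF L).obj ((Scheme.Modules.pushforward I.subschemeι).obj (Coh.structureModule I.subscheme))) 0) :=
    Groth.L21.RR.finite_HH' k (Groth.L15.Ref.isCoh_tensorMod (Groth.L21.RR.isCoh_quotMod I)
      (Groth.L16.ProperFinite.isCoh_of_isInvertible hL)) 0
  have hadd := Groth.L03.Euler.finrank_eq_add f0 g0 (exact_hmap_hmap hS 0)
  have a1 : Module.finrank k (Coh.HH X ((tensorRightF L).obj (Coh.structureModule X)) 0) =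
      Module.finrank k (Coh.HH X L 0) := Groth.L03.Euler.finrank_HH_of_iso (k := k) (tensorUnitLeft L) 0
  have a2 : Module.finrank k (Coh.HH X ((tensorRightF L).obj (ClSub.idealMod I)) 0) =
      Module.finrank k (Coh.HH X (CohB1.tensorMod L (ClSub.idealMod I)) 0) :=
    Groth.L03.Euler.finrank_HH_of_iso (k := k) (tensorComm L (ClSub.idealMod I)).symm 0
  have hg : LinearMap.range g0 = ⊤ := by
    refine Submodule.eq_top_of_finrank_eq (le_antisymm (Submodule.finrank_le _) ?_)
    have h1 := LinearMap.finrank_range_le f0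
    have hres' : Module.finrank k (Coh.HH X L 0) = Module.finrank k (Coh.HH X (CohB1.tensorMod L (ClSub.idealMod I)) 0) +
      Module.finrank k (Coh.HH X (CohB1.tensorMod (ClSub.quotMod I) L) 0) := hres
    show Module.finrank k (Coh.HH X (CohB1.tensorMod (ClSub.quotMod I) L) 0) ≤ _
    omega
  have hinj : Function.Injective (hmap ((tensorRightF L).map (ClSub.idealModι I)) 1) := by
    refine (injective_iff_map_eq_zero _).2 fun x hx => ?_
    obtain ⟨y, rfl⟩ := ((exact_delta_hmap hS 0) x).1 hx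
    obtain ⟨z, rfl⟩ := LinearMap.range_eq_top.1 hg y
    exact ((exact_hmap_delta hS 0) _).2 ⟨z, rfl⟩
  -- compare on the line
  obtain ⟨E1⟩ := finrank_HH_eq hd π hL hR1 1
  obtain ⟨E2⟩ := finrank_HH_eq hd π hNinv hN1 1
  haveI : Module.Finite k (Coh.HH X ((tensorRightF L).obj (Coh.structureModule X)) 1) :=
    Groth.L21.RR.finite_HH' k (Groth.L15.Ref.isCoh_tensorMod (Groth.L16.CohClosedPush.isCoh_structure)
      (Groth.L16.ProperFinite.isCoh_of_isInvertible hL)) 1
  have hle : h k 1 (CohB1.tensorMod ((Coh.push π).obj L) (O' 1 k (-1))) ≤ h k 1 ((Coh.push π).obj L) := by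
    refine le_of_eq_of_le ((finrank_line_iso eT.symm 1).trans (E2.finrank_eq.trans
      (Groth.L03.Euler.finrank_HH_of_iso (k := k) (tensorComm L (ClSub.idealMod I)) 1))) ?_
    refine le_of_le_of_eq (LinearMap.finrank_le_finrank_of_injective
      (f := Groth.L21.RR.hk k ((tensorRightF L).map (ClSub.idealModι I)) 1) hinj) ?_
    exact (Groth.L03.Euler.finrank_HH_of_iso (k := k) (tensorUnitLeft L) 1).trans E1.finrank_eq.symm
  obtain ⟨hA, hB⟩ := h1_zero_of_le hG hle
  refine ⟨E1.symm.toEquiv.subsingleton, ?_, hB⟩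
  haveI : Subsingleton (Coh.HH (CohB1.ProjSpace 1 k) ((Coh.push π).obj N) 1) :=
    Groth.L22.Reg.subsingleton_iso eT.symm 1 hB
  exact E2.symm.toEquiv.subsingleton

end Groth.L03.SurfFib
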