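import Groth.Agent.L03.Ruled.Fibre
import Groth.Agent.L03.BlowPt.PullDiv
import Groth.Agent.L03.SurfNum.Fibre
import Groth.Agent.L03.Euler.Twist
import Groth.Agent.L16.PushEdge
import Groth.Agent.L21.P1.Coh
import Groth.Agent.L21.Bundle.Tors
import Groth.Agent.L21.RR.PointPow
import Groth.Agent.L21.RR.VeryAmple
import Groth.Agent.L12.CurveFam.R1
import Groth.Agent.L19.IdealInvertible
import Groth.Agent.L22.Reg.Pn
import Groth.Agent.L16.Exist.PushPull
import Groth.Agent.L14.LocHilb.Lift.Obs.Transport
import Groth.Agent.L07.SyntKoszul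
import Groth.Agent.S0927

/-!
Cohomology of a line bundle on a surface fibred over the projective line.
-/

set_option autoImplicit false
set_option linter.style.haveILetI false
set_option linter.unusedSectionVars false
set_option backward.isDefEq.respectTransparency false

universe u

open CategoryTheory CategoryTheory.Limits AlgebraicGeometry TopologicalSpace
open Groth.L16.CohLinear (hmap hmap_comp exact_hmap_hmap exact_hmap_delta exact_delta_hmap delta overLin)
open Groth.L00.Tensor (tensorRightF tensorIso tensorComm tensorUnitLeft tensorUnitRight)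
open Groth.L22.Reg (O')

noncomputable section

namespace Groth.L03.SurfFib

/-- A closed subspace other than the whole of an irreducible space has smaller dimension. -/
theorem krullDim_add_one_le {X Y : Type*} [TopologicalSpace X] [TopologicalSpace Y] [IrreducibleSpace X]
    (f : Y → X) (hf : Topology.IsClosedEmbedding f) (hne : Set.range f ≠ Set.univ) :
    topologicalKrullDim Y + 1 ≤ topologicalKrullDim X := by
  have hlt : ∀ c : IrreducibleCloseds Y, (IrreducibleCloseds.map (f := f) hf.continuous c).carrier ⊂ Set.univ :=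
    fun c => by
      refine Set.ssubset_univ_iff.2 fun h => hne (Set.univ_subset_iff.1 ?_)
      rw [← h]
      exact closure_minimal (Set.image_subset_range f _) hf.isClosed_range
  have hmono := IrreducibleCloseds.map_strictMono_of_isInducing hf.isInducing
  show Order.krullDim (IrreducibleCloseds Y) + 1 ≤ Order.krullDim (IrreducibleCloseds X)
  rcases isEmpty_or_nonempty (IrreducibleCloseds Y) with h | h
  · rw [Order.krullDim_eq_bot, WithBot.bot_add]
    exact bot_le
  let top' : IrreducibleCloseds X := ⟨Set.univ, IrreducibleSpace.isIrreducible_univ X, isClosed_univ⟩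
  rw [Order.krullDim_eq_iSup_length, ← WithBot.coe_one, ← WithBot.coe_add]
  haveI : Nonempty (LTSeries (IrreducibleCloseds Y)) := ⟨RelSeries.singleton _ h.some⟩
  rw [ENat.iSup_add, WithBot.coe_iSup (OrderTop.bddAbove _)]
  refine iSup_le fun p => ?_
  have hp : (p.map _ hmono).last < top' := hlt _
  refine le_trans ?_ (Order.LTSeries.length_le_krullDim ((p.map _ hmono).snoc top' hp))
  rw [RelSeries.snoc_length]
  simp

variable {k : Type u} [Field k]

/-- Global functions of a domain act without torsion on a direct image under a surjection. -/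
theorem isTorsionFree_push {X Y : Scheme.{u}} [IsIntegral X] [IsIntegral Y] (f : X ⟶ Y) [Surjective f]
    {L : X.Modules} (hL : PicF.IsInvertible L) : TorSh.IsTorsionFree ((Coh.push f).obj L) := by
  have hL1 := Groth.L12.FinCov.isFinLocFreeOfRank_one_of_isInvertible hL
  intro y
  refine ⟨fun r hr => fun a b hab => ?_⟩
  have hr0 : r ≠ 0 := hr.ne_zero
  rw [← sub_eq_zero]
  have hab0 : r • (a - b) = 0 := by rw [smul_sub]; exact sub_eq_zero.2 hab
  generalize a - b = m at hab0 ⊢
  obtain ⟨U, hyU, s, rfl⟩ := TopCat.Presheaf.exists_germ_eq ((Coh.push f).obj L).presheaf m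
  obtain ⟨W, hyW, c, rfl⟩ := TopCat.Presheaf.exists_germ_eq Y.presheaf r
  let V := W ⊓ U
  have hyV : y ∈ V := ⟨hyW, hyU⟩
  let s' : Γ((Coh.push f).obj L, V) := Groth.L18.Frame.rs _ (inf_le_right : V ≤ U) s
  let c' : Γ(Y, V) := Groth.L18.Frame.ro (inf_le_left : V ≤ W) c
  have e1 : ((Coh.push f).obj L).presheaf.germ V y hyV (c' • s') = 0 := by
    rw [Groth.L20.ModStalk.germ_smul]
    simp only [c', s', Groth.L18.Frame.ro, Groth.L20.ModStalk.germ_rs, TopCat.Presheaf.germ_res_apply]
    exact hab0
  obtain ⟨V', hyV', i₁, i₂, he⟩ := ((Coh.push f).obj L).presheaf.germ_eq y hyV hyV _ 0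
    (e1.trans (map_zero _).symm)
  let c'' : Γ(Y, V') := Groth.L18.Frame.ro i₁.le c'
  let s'' : Γ((Coh.push f).obj L, V') := Groth.L18.Frame.rs _ i₁.le s'
  have h0 : c'' • s'' = 0 := by
    refine (Groth.L18.Frame.rs_smul _ i₁.le c' s').symm.trans ?_
    exact he.trans (map_zero _)
  have hc'' : c'' ≠ 0 := fun h => hr0 (by
    have := congrArg (Y.presheaf.germ V' y hyV') h
    simp only [c'', c', Groth.L18.Frame.ro, TopCat.Presheaf.germ_res_apply, map_zero] at this
    exact this)
  have hne : (Y.basicOpen c'' : Set Y).Nonempty := by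
    by_contra h
    refine hc'' ((basicOpen_eq_bot_iff c'').1 (Opens.ext ?_))
    simpa [Set.not_nonempty_iff_eq_empty] using h
  obtain ⟨z, hz⟩ := hne
  obtain ⟨x, rfl⟩ := f.surjective z
  have hxc : (f.app V').hom c'' ≠ 0 := fun h => by
    have : x ∈ f ⁻¹ᵁ Y.basicOpen c'' := hz
    rw [Scheme.preimage_basicOpen] at this
    erw [h] at this
    simp at this
  have hs0 : (show Γ(L, f ⁻¹ᵁ V') from s'') = 0 := by
    refine TopCat.Presheaf.section_ext ((Groth.L21.Mod.toAbSh X).obj L) _ _ _ fun w hw => ?_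
    show L.presheaf.germ (f ⁻¹ᵁ V') w hw _ = L.presheaf.germ (f ⁻¹ᵁ V') w hw 0
    rw [map_zero]
    obtain ⟨e⟩ := Groth.L22.CurveDeg.nonempty_stalk_equiv hL1 w
    have h1 : X.presheaf.germ (f ⁻¹ᵁ V') w hw ((f.app V').hom c'') •
        L.presheaf.germ (f ⁻¹ᵁ V') w hw (show Γ(L, f ⁻¹ᵁ V') from s'') = 0 := by
      rw [← Groth.L20.ModStalk.germ_smul, show (f.app V').hom c'' • (show Γ(L, f ⁻¹ᵁ V') from s'') = 0 from h0]
      exact map_zero _
    have h2 : X.presheaf.germ (f ⁻¹ᵁ V') w hw ((f.app V').hom c'') ≠ 0 := fun h =>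
      hxc (germ_injective_of_isIntegral (X := X) (U := f ⁻¹ᵁ V') w hw (h.trans (map_zero _).symm))
    rw [← e.apply_symm_apply (L.presheaf.germ (f ⁻¹ᵁ V') w hw _), ← map_smul, LinearEquiv.map_eq_zero_iff] at h1
    rw [← e.apply_symm_apply (L.presheaf.germ (f ⁻¹ᵁ V') w hw _), LinearEquiv.map_eq_zero_iff]
    funext l
    exact (mul_eq_zero.1 (congrFun h1 l)).resolve_left h2
  have := congrArg (((Coh.push f).obj L).presheaf.germ V' y hyV') (show s'' = 0 from hs0)
  rw [map_zero] at this
  simpa only [s'', s', Groth.L20.ModStalk.germ_rs] using this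

variable {X : Scheme.{u}} [X.Over (Spec (CommRingCat.of k))] [IsProper (X ↘ Spec (CommRingCat.of k))]
  [IsIntegral X] [HasInjectiveResolutions X.Modules] [IsAlgClosed k]
  (hd : topologicalKrullDim X = 2) (π : X ⟶ CohB1.ProjSpace 1 k)
  [π.IsOver (Spec (CommRingCat.of k))] [Surjective π]

include k hd

theorem isZero_Rpush_ge_two {L : X.Modules} (hL : PicF.IsInvertible L) (p : ℕ) (hp : 1 < p) :
    IsZero ((Coh.Rpush π p).obj L) := by
  haveI : IsProper (CohB1.ProjSpace 1 k ↘ Spec (CommRingCat.of k)) :=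
    inferInstanceAs (IsProper (CohB1.ProjSpace.toSpec 1 k))
  haveI := Groth.L21.RR.isNoetherian_of_proper (X := X) k
  haveI := Groth.L21.RR.isNoetherian_of_proper (X := CohB1.ProjSpace 1 k) k
  haveI : (CohB1.ProjSpace 1 k).IsSeparated :=
    ⟨by rw [← terminal.comp_from (CohB1.ProjSpace 1 k ↘ Spec (CommRingCat.of k))]; infer_instance⟩
  haveI : IsProper π := by
    haveI : IsProper (π ≫ (CohB1.ProjSpace 1 k ↘ Spec (CommRingCat.of k))) := by rw [comp_over]; infer_instance
    exact IsProper.of_comp π (CohB1.ProjSpace 1 k ↘ Spec (CommRingCat.of k))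
  haveI : IsIntegral (CohB1.ProjSpace 1 k) := Groth.L16.ProjSpace.isIntegral 1 k
  haveI : Smooth (CohB1.ProjSpace 1 k ↘ Spec (CommRingCat.of k)) :=
    inferInstanceAs (Smooth (CohB1.ProjSpace.toSpec 1 k))
  have hdC : topologicalKrullDim (CohB1.ProjSpace 1 k) = 1 := by
    rw [Groth.L16.ProjSpace.topologicalKrullDim_eq_of_field 1 k]; norm_num
  haveI := Groth.L03.SurfNum.flat_of_surjective k hdC π
  haveI : LocallyOfFinitePresentation π := inferInstance
  haveI : Coh.IsQCoh L := Groth.L21.Extend.isQCoh_of_isInvertible hL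
  have hfp : CohB1.IsFP L := Groth.L18.LFP.isFP_of_isFinLocFree _ (Groth.L16.Existence.isFinLocFree_of_isInvertible hL)
  have hfl := Groth.Agent.Pic0.isFlatOver_of_isInvertible π hL
  refine Groth.L21.Mod.isZero_of_restrict (fun _ : Unit => (⊤ : (CohB1.ProjSpace 1 k).Opens).ι)
    (fun x => ⟨(), ⟨x, trivial⟩, rfl⟩) _ fun _ => Groth.L17.BC.isZero_restrict_of_forall _ ⊤ fun y _ => ?_
  obtain ⟨z, hz', hz⟩ := isClosed_closure.exists_closed_singleton (Set.singleton_nonempty y).closure
  haveI : IsClosedImmersion ((CohB1.ProjSpace 1 k).fromSpecResidueField z) :=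
    isClosed_singleton_iff_isClosedImmersion.mp hz
  haveI : IsClosedImmersion (π.fiberι z) :=
    inferInstanceAs (IsClosedImmersion (pullback.fst π ((CohB1.ProjSpace 1 k).fromSpecResidueField z)))
  have hdim : topologicalKrullDim (π.fiber z) ≤ (1 : ℕ) := by
    have h := krullDim_add_one_le _ (π.fiberι z).isClosedEmbedding fun h => by
      obtain ⟨x, hx⟩ := π.surjective (genericPoint (CohB1.ProjSpace 1 k))
      have : x ∈ Set.range (π.fiberι z) := h ▸ Set.mem_univ x
      rw [Scheme.Hom.range_fiberι] at this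
      exact Groth.L03.SurfNum.genericPoint_notMem_point k hdC hz (hx.symm.trans this)
    rw [hd] at h
    generalize topologicalKrullDim (π.fiber z) = d at h ⊢
    induction d with
    | bot => exact bot_le
    | coe d =>
      have h' : d + 1 ≤ (1 : ℕ∞) + 1 := by
        rw [one_add_one_eq_two]
        exact WithBot.coe_le_coe.1 h
      exact WithBot.coe_le_coe.2 (WithTop.le_of_add_le_add_right (by simp) h')
  obtain ⟨U, hzU, hU⟩ := Groth.L17.BC.exists_isZero_of_vanishing π L hfp hfl z p
    (Groth.L12.CurveFam.subsingleton_fiberH_of_dim π z hdim L hp)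
  exact ⟨U, (specializes_iff_mem_closure.2 hz').mem_open U.2 hzU, hU⟩

/-- Cohomology is computed on the line. -/
theorem finrank_HH_eq {L : X.Modules} (hL : PicF.IsInvertible L) (hR1 : IsZero ((Coh.Rpush π 1).obj L)) (i : ℕ) :
    Nonempty (Coh.HH (CohB1.ProjSpace 1 k) ((Coh.push π).obj L) i ≃ₗ[k] Coh.HH X L i) := by
  refine ⟨LinearEquiv.ofBijective
    { toFun := CohPull.pushEdge π L i
      map_add' := fun a b => map_add (CohPull.pushEdge π L i) a b
      map_smul' := fun c v => ?_ }
    (Groth.L16.PushEdge.pushEdge_bijective_of_isZero_Rpush π L (fun q hq => ?_) i)⟩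
  · refine (Groth.L14.LocHilbLift.pushEdge_smul π L i
      (Coh.toGlobal (CohB1.ProjSpace 1 k ↘ Spec (CommRingCat.of k)) c) v).trans ?_
    refine congrArg (fun r : Coh.Γtop X => r • CohPull.pushEdge π L i v) ?_
    show π.appTop ((CohB1.ProjSpace 1 k ↘ Spec (CommRingCat.of k)).appTop _) =
      (X ↘ Spec (CommRingCat.of k)).appTop _
    rw [← comp_over π (Spec (CommRingCat.of k)), Scheme.Hom.comp_appTop]
    rfl
  · rcases eq_or_lt_of_le (Nat.one_le_iff_ne_zero.2 hq.ne') with rfl | h
    · exact hR1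
    · exact isZero_Rpush_ge_two hd π hL q h

end Groth.L03.SurfFib
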