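import Groth.Agent.L03.SurfFib.PushTensor
import Groth.Agent.L03.BlowPt.CurveSeq
import Groth.Agent.L03.BlowPt.Ramanujam
import Groth.Agent.L03.SurfAdj.Tools
import Groth.Agent.L14.LocHilb.Lift.Obs.Transport
import Groth.Agent.L21.Duality.Deg
import Groth.Agent.L21.Extend.Split
import Groth.Agent.L23.SchKer

/-!
# Sections of line bundles on a divisor of a surface
-/

set_option autoImplicit false
set_option backward.isDefEq.respectTransparency false
set_option linter.style.haveILetI false
set_option linter.unusedSectionVars false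
universe u

open CategoryTheory CategoryTheory.Limits AlgebraicGeometry TopologicalSpace
open Groth.L22 Groth.L22.Inter Groth.L22.Nef Groth.L22.Big Groth.L03.Euler Groth.L03.SurfNum
open Groth.L03.BlowPt.Ramanujam (prodPt prodPt_cons isEffCartier_pt isEffCartier_prodPt resT)
open Groth.L03.BlowPt.QuotSeq (res res_comp res_self mul_le_left)
open Groth.L00.Tensor (tensorIso tensorComm tensorUnitLeft tensorUnitRight tensorAssoc)
open Groth.L16.CohLinear (hmap hmap_comp hmap_id exact_hmap_hmap)
open Groth.L03.SurfAdj (hhEquiv)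

noncomputable section

namespace Groth.L03.SurfFib.DivSections

section Curve

variable (k : Type u) [Field k] {Y : Scheme.{u}} [Y.Over (Spec (CommRingCat.of k))]
  [IsProper (Y ↘ Spec (CommRingCat.of k))]

theorem deg_eq_altT (N : Y.Modules) :
    (Curv2.deg k Y N 1 : ℚ) = altT k (fun _ : Fin 1 => N) (Coh.structureModule Y) := by
  rw [altT_one, euler_iso (tensorUnitLeft _), Curv2.deg, Nat.cast_one, one_mul]

variable [IsIntegral Y] (hd : topologicalKrullDim Y = (1 : ℕ))

include hd in
/-- An invertible module of negative degree on a curve has no sections. -/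
theorem subsingleton_h0 {N : Y.Modules} (hN : PicF.IsInvertible N) (hdeg : Curv2.deg k Y N 1 < 0) :
    Subsingleton (Coh.HH Y N 0) := by
  haveI := Groth.L21.RR.isNoetherian_of_proper (X := Y) k
  have hneg : altT k (fun _ : Fin 1 => N) (Coh.structureModule Y) < 0 := by
    rw [← deg_eq_altT]
    exact_mod_cast hdeg
  refine not_nontrivial_iff_subsingleton.1 fun hn => ?_
  haveI := hn
  obtain ⟨s, hs⟩ := Groth.L21.RR.exists_hom_ne_zero (L := N)
  have hη := Groth.L22.CurveAmple.genericPoint_mem_genLocus hN hs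
  by_cases htop : CohB1.genLocus _ s = ⊤
  · obtain ⟨e⟩ := Groth.L03.SurfAmple.nonempty_iso_of_genLocus_top s htop
    rw [altT_one, euler_iso (tensorUnitLeft _), euler_iso e, sub_self] at hneg
    simp at hneg
  · obtain ⟨z, hz⟩ : ∃ z, z ∉ CohB1.genLocus _ s := by
      by_contra hall
      push Not at hall
      exact htop (top_le_iff.1 fun z _ => hall z)
    exact lt_irrefl _ ((Groth.L03.SurfAmple.altT_pos_of_vanishing k hd hN s hη hz).trans hneg)

end Curve

variable {X D : Scheme.{u}} (ιD : D ⟶ X) [IsClosedImmersion ιD]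

theorem shortExact_tensor {N : D.Modules} (hN : PicF.IsInvertible N) (S : ShortComplex X.Modules)
    (hS : S.ShortExact) {B₀ : D.Modules} (eB : S.X₂ ≅ (Scheme.Modules.pushforward ιD).obj B₀) :
    (S.map ((DCoh.tensorBi (X := X)).obj ((Scheme.Modules.pushforward ιD).obj N))).ShortExact := by
  set F := (Scheme.Modules.pushforward ιD).obj N
  haveI := hS.mono_f
  have hmono := PushTensor.mono_tensor ιD hN S.f eB
  refine Groth.L00.KFlat.shortExact_of_stalks _ fun x => ?_
  let S' : ShortComplex (ModuleCat.{u} (X.presheaf.stalk x)) := S.map (Groth.L00.Stk.F X x)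
  have hS' : S'.ShortExact := hS.map_of_exact _
  let T := (MonoidalCategory.curriedTensor (ModuleCat.{u} (X.presheaf.stalk x))).obj ((Groth.L00.Stk.F X x).obj F)
  have hτ : ∀ {N N' : X.Modules} (g : N ⟶ N'),
      T.map ((Groth.L00.Stk.F X x).map g) ≫ (Groth.L00.Stk.τ x F N').hom =
        (Groth.L00.Stk.τ x F N).hom ≫ (Groth.L00.Stk.F X x).map (((DCoh.tensorBi (X := X)).obj F).map g) := by
    intro N N' g
    have e1 : ((DCoh.tensorBi (X := X)).obj F).map g = Groth.L00.Tensor.tensorMap (𝟙 F) g := by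
      refine congrArg (Groth.L00.Tensor.shf X).map ?_
      rw [CategoryTheory.Functor.map_id]
      exact (MonoidalCategory.id_tensorHom _ _).symm
    have e2 : T.map ((Groth.L00.Stk.F X x).map g) =
        ModuleCat.ofHom (TensorProduct.map ((Groth.L00.Stk.F X x).map (𝟙 F)).hom ((Groth.L00.Stk.F X x).map g).hom) := by
      rw [CategoryTheory.Functor.map_id]; rfl
    rw [e1, e2, Groth.L00.Stk.τ_natural]
  have hT : (S'.map T).ShortExact := by
    refine { exact := ?_, mono_f := ?_, epi_g := ?_ }
    · rw [ShortComplex.moduleCat_exact_iff_ker_sub_range]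
      intro y hy
      exact (lTensor_exact _ (CategoryTheory.ShortComplex.ShortExact.moduleCat_exact_iff_function_exact _ |>.1 hS'.exact)
        hS'.moduleCat_surjective_g y).1 hy
    · haveI : Mono ((Groth.L00.Stk.F X x).map (((DCoh.tensorBi (X := X)).obj F).map S.f)) :=
        (ModuleCat.mono_iff_injective _).2 ((Groth.L21.Mod.mono_iff_stalk_injective _).1 hmono x)
      haveI : Mono (T.map ((Groth.L00.Stk.F X x).map S.f) ≫ (Groth.L00.Stk.τ x F S.X₂).hom) := by
        rw [hτ S.f]; infer_instance
      exact mono_of_mono (T.map ((Groth.L00.Stk.F X x).map S.f)) (Groth.L00.Stk.τ x F S.X₂).hom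
    · rw [ModuleCat.epi_iff_surjective]
      exact LinearMap.lTensor_surjective _ hS'.moduleCat_surjective_g
  exact (ShortComplex.shortExact_iff_of_iso (ShortComplex.isoMk (Groth.L00.Stk.τ x F S.X₁)
    (Groth.L00.Stk.τ x F S.X₂) (Groth.L00.Stk.τ x F S.X₃) (hτ S.f).symm (hτ S.g).symm)).1 hT

theorem nonempty_quot_push {I : X.IdealSheafData} (h : ιD.ker ≤ I) :
    ∃ B₀ : D.Modules, Nonempty (ClSub.quotMod I ≅ (Scheme.Modules.pushforward ιD).obj B₀) := by
  have hle : ιD.ker ≤ I.subschemeι.ker := h.trans (le_of_eq I.ker_subschemeι.symm)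
  let j := IsClosedImmersion.lift ιD I.subschemeι hle
  have hj : j ≫ ιD = I.subschemeι := IsClosedImmersion.lift_fac _ _ _
  exact ⟨(Scheme.Modules.pushforward j).obj (Coh.structureModule I.subscheme),
    ⟨(Scheme.Modules.pushforwardCongr hj.symm).app _ ≪≫ ((Scheme.Modules.pushforwardComp j ιD).app _).symm⟩⟩

variable (k : Type u) [Field k] [X.Over (Spec (CommRingCat.of k))] [IsProper (X ↘ Spec (CommRingCat.of k))]
  [IsIntegral X] [D.Over (Spec (CommRingCat.of k))]
  (hιD : ιD ≫ (X ↘ Spec (CommRingCat.of k)) = D ↘ Spec (CommRingCat.of k))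
  (hd : topologicalKrullDim X = (2 : ℕ)) (hreg : ∀ x : X, IsRegularLocalRing (X.presheaf.stalk x))
  {N : D.Modules} (hN : PicF.IsInvertible N)

include k hd hreg hN

/-- A section vanishing on a part of the divisor and killed step by step vanishes. -/
theorem injective_res
    (hstep : ∀ (I : X.IdealSheafData) (m : Multiset X), BlowUp.IsEffCartierIdeal I →
      (∀ y ∈ m, topologicalKrullDim (closure ({y} : Set X)) = (1 : ℕ)) → m ≠ 0 → I * prodPt m = ιD.ker →
      ∃ y ∈ m, Subsingleton (Coh.HH X (CohB1.tensorMod ((Scheme.Modules.pushforward ιD).obj N)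
        (CohB1.tensorMod (ClSub.idealMod I) (ClSub.quotMod (pt y)))) 0)) :
    ∀ (n : ℕ) (m : Multiset X), m.card = n → (∀ y ∈ m, topologicalKrullDim (closure ({y} : Set X)) = (1 : ℕ)) →
      ∀ I : X.IdealSheafData, BlowUp.IsEffCartierIdeal I → I * prodPt m = ιD.ker → ∀ h : ιD.ker ≤ I,
        Function.Injective (hmap (resT ((Scheme.Modules.pushforward ιD).obj N) h) 0) := by
  classical
  set M := (Scheme.Modules.pushforward ιD).obj N
  intro n
  induction n with
  | zero =>
    intro m hm _ I _ he h
    rw [Multiset.card_eq_zero] at hm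
    subst hm
    rw [prodPt, Multiset.map_zero, Multiset.prod_zero, mul_one] at he
    subst he
    intro a b hab
    rwa [resT, res_self, CategoryTheory.Functor.map_id, hmap_id, hmap_id] at hab
  | succ n ih =>
    intro m hm hmc I hI he h
    obtain ⟨y, hym, hy⟩ := hstep I m hI hmc (fun h0 => by simp [h0] at hm) he
    obtain ⟨m', rfl⟩ := Multiset.exists_cons_of_mem hym
    have hyd := hmc y hym
    have hIi : PicF.IsInvertible (ClSub.idealMod I) := (Groth.Agent.L19.IdealInvertible.isEffCartier_iff _).2 hI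
    rw [prodPt_cons, ← mul_assoc] at he
    have hZ' : ιD.ker ≤ I * pt y := he ▸ mul_le_left (I * pt y) (prodPt m')
    have i1 := ih m' (by simpa using hm) (fun z hz => hmc z (Multiset.mem_cons_of_mem hz)) (I * pt y)
      (Groth.L22.Ideals.isEffCartier_mul hI (isEffCartier_pt k hd hreg hyd)) he hZ'
    obtain ⟨χ, w, hS⟩ := Groth.L03.BlowPt.QuotSeq.exists_shortExact hIi (pt y)
    obtain ⟨B₀, ⟨eB⟩⟩ := nonempty_quot_push ιD hZ'
    have hT := shortExact_tensor ιD hN _ hS (B₀ := B₀) eB
    have i2 : Function.Injective (hmap (resT M (mul_le_left I (pt y))) 0) := fun a b hab => by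
      rw [← sub_eq_zero]
      obtain ⟨c, hc⟩ := (exact_hmap_hmap hT 0 (a - b)).1 (by
        change hmap (resT M (mul_le_left I (pt y))) 0 (a - b) = 0
        rw [map_sub, hab, sub_self])
      rw [← hc, hy.elim c 0]
      exact map_zero _
    have hcomp : resT M h = resT M hZ' ≫ resT M (mul_le_left I (pt y)) := by
      rw [resT, resT, resT, ← CategoryTheory.Functor.map_comp, res_comp]
    intro a b hab
    rw [hcomp, hmap_comp, hmap_comp] at hab
    exact i1 (i2 hab)

include hιD in
/-- The criterion for a line bundle on a divisor to have no sections. -/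
theorem subsingleton_of_steps (hD : BlowUp.IsEffCartierIdeal ιD.ker)
    (hstep : ∀ (I : X.IdealSheafData) (m : Multiset X), BlowUp.IsEffCartierIdeal I →
      (∀ y ∈ m, topologicalKrullDim (closure ({y} : Set X)) = (1 : ℕ)) → m ≠ 0 → I * prodPt m = ιD.ker →
      ∃ y ∈ m, Subsingleton (Coh.HH X (CohB1.tensorMod ((Scheme.Modules.pushforward ιD).obj N)
        (CohB1.tensorMod (ClSub.idealMod I) (ClSub.quotMod (pt y)))) 0)) :
    Subsingleton (Coh.HH D N 0) := by
  set M := (Scheme.Modules.pushforward ιD).obj N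
  obtain ⟨m, hm, he⟩ := Groth.L03.BlowPt.Ramanujam.exists_prodPt k hd hreg hD
  have hle : ιD.ker ≤ (⊤ : X.IdealSheafData) := le_top
  have hinj := injective_res ιD k hd hreg hN hstep m.card m rfl hm ⊤ Groth.L22.Ideals.isEffCartier_top
    (by rw [← Scheme.IdealSheafData.one_eq_top, one_mul, ← he]) hle
  haveI : IsEmpty (⊤ : X.IdealSheafData).subscheme := ⟨fun z => by
    have h : (⊤ : X.IdealSheafData).subschemeι z ∈ ((⊤ : X.IdealSheafData).support : Set X) := by
      rw [← Scheme.IdealSheafData.range_subschemeι]; exact Set.mem_range_self z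
    simp at h⟩
  let e0 := PushTensor.tensorPushIso (⊤ : X.IdealSheafData).subschemeι M
  letI : (⊤ : X.IdealSheafData).subscheme.Over (Spec (CommRingCat.of k)) :=
    ⟨(⊤ : X.IdealSheafData).subschemeι ≫ (X ↘ Spec (CommRingCat.of k))⟩
  obtain ⟨q0⟩ := Groth.L14.LocHilbLift.nonempty_HH_pushEquiv (k := k) (⊤ : X.IdealSheafData).subschemeι rfl
    ((Scheme.Modules.pullback (⊤ : X.IdealSheafData).subschemeι).obj M) 0
  haveI : Subsingleton (Coh.HH (⊤ : X.IdealSheafData).subscheme
      ((Scheme.Modules.pullback (⊤ : X.IdealSheafData).subschemeι).obj M) 0) := by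
    refine (Groth.L21.RR.e0 _).toEquiv.subsingleton_congr.2 ?_
    exact Groth.L21.Extend.subsingleton_bot _ fun x _ => isEmptyElim x
  haveI : Subsingleton (Coh.HH X (((DCoh.tensorBi (X := X)).obj M).obj (ClSub.quotMod ⊤)) 0) :=
    ((hhEquiv k e0 0).trans q0).toEquiv.subsingleton
  haveI : Subsingleton (Coh.HH X (CohB1.tensorMod M (ClSub.quotMod ιD.ker)) 0) := hinj.subsingleton
  obtain ⟨eq⟩ := PushTensor.nonempty_push_iso_quot ιD
  haveI := Groth.L17.ClosedPush.isIso_counit ιD
  let e : CohB1.tensorMod M (ClSub.quotMod ιD.ker) ≅ M :=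
    tensorIso (Iso.refl M) eq.symm ≪≫ PushTensor.tensorPushIso ιD M ≪≫
      (Scheme.Modules.pushforward ιD).mapIso ((asIso (Scheme.Modules.pullbackPushforwardAdjunction ιD).counit).app N)
  obtain ⟨q⟩ := Groth.L14.LocHilbLift.nonempty_HH_pushEquiv (k := k) ιD hιD N 0
  exact (((hhEquiv k e 0).trans q).symm).toEquiv.subsingleton

end Groth.L03.SurfFib.DivSections
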