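import Groth.Agent.L03.SurfFib.PullDeg
import Groth.Agent.L17.BC.GenApply
import Groth.Agent.L17.BC.Criteria
import Groth.Agent.L17.ProperCoh
import Groth.Agent.L22.CurveAmple.Main
import Groth.Agent.L22.PDual.TwistExt
import Groth.Agent.L22.CurveDeg.NonSpecial
import Groth.Agent.L26.Pic0.Support
import Groth.Agent.S2391

/-!
# Modules trivial on the general fibres have sections after a twist from the base
-/

set_option autoImplicit false
set_option linter.style.haveILetI false
set_option linter.unusedSectionVars false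
set_option backward.isDefEq.respectTransparency false

universe u

open CategoryTheory CategoryTheory.Limits AlgebraicGeometry TopologicalSpace
open Groth.L22 Groth.L22.Inter Groth.L22.Nef Groth.L22.Big Groth.L03.SurfNum
open Groth.L00.Tensor (tensorIso tensorComm tensorUnitLeft tensorRightF)

noncomputable section

namespace Groth.L03.SurfFib

variable {k : Type u} [Field k] [IsAlgClosed k] {X : Scheme.{u}} [X.Over (Spec (CommRingCat.of k))]
  [IsProper (X ↘ Spec (CommRingCat.of k))] [IsIntegral X]
  {C : Scheme.{u}} [C.Over (Spec (CommRingCat.of k))] [IsProper (C ↘ Spec (CommRingCat.of k))]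
  [Smooth (C ↘ Spec (CommRingCat.of k))] [IsIntegral C] (hdimC : topologicalKrullDim C = 1)
  (π : X ⟶ C) [π.IsOver (Spec (CommRingCat.of k))] [Surjective π]

include k hdimC in
/-- Ample modules on a curve from a point. -/
theorem exists_ample_curve {q : C} (hq : IsClosed ({q} : Set C)) : ∃ A : C.Modules, CohB1.IsAmple A := by
  haveI := Groth.L21.RR.isNoetherian_of_proper (X := C) k
  obtain ⟨hI, -⟩ := deg_point (k := k) hdimC hq
  haveI : IsClosedImmersion (C.fromSpecResidueField q) := isClosed_singleton_iff_isClosedImmersion.mp hq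
  obtain ⟨M, s, hM, -, hloc⟩ := Groth.L08.Cube.exists_section_of_effCartier (C.fromSpecResidueField q).ker
    ((Groth.Agent.L19.IdealInvertible.isEffCartier_iff _).1 hI)
  have hsupp : ((C.fromSpecResidueField q).ker.support : Set C) = {q} := by
    rw [Scheme.Hom.support_ker, Scheme.range_fromSpecResidueField, hq.closure_eq]
  have hnot : ∀ x, x ∉ CohB1.genLocus M s ↔ x = q := fun x => by
    have : x ∈ (CohB1.genLocus M s : Set C) ↔ x ∈ ((C.fromSpecResidueField q).ker.support : Set C)ᶜ := by
      rw [hloc]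
    rw [hsupp] at this
    constructor
    · intro hx
      by_contra hne
      exact hx (this.2 hne)
    · intro hx hh
      exact this.1 hh hx
  refine ⟨M, (Groth.L22.CurveAmple.isAmple_and_isAffineOpen k hdimC.le hM s (fun x hx => (hnot x).1 hx ▸ hq)
    fun x hx => ⟨q, ?_, (hnot q).2 rfl⟩).1⟩
  have hxg : x = genericPoint C := by
    by_contra hne
    refine hx (isClosed_of_closure_subset fun w hw => ?_)
    rcases Groth.L21.RR.Top.spec_of_dim_le_one (X := C.toTopCat) hdimC.le (genericPoint C) x w
      ((genericPoint_spec C).specializes trivial) (specializes_iff_mem_closure.2 hw) with e | e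
    · exact absurd e.symm hne
    · exact e.symm
  rw [hxg]
  exact genericPoint_specializes q

include k in
/-- On an integral closed fibre a trivial module has one section. -/
theorem fiberRank_eq_one {y : C} (hy : IsClosed ({y} : Set C)) (hint : IsIntegral (π.fiber y)) [IsProper π]
    {D : X.Modules} (e : Nonempty ((Scheme.Modules.pullback (π.fiberι y)).obj D ≅ Coh.structureModule (π.fiber y))) :
    CohIII.fiberRank π D 0 y = 1 := by
  haveI := hint
  letI : Algebra k (C.residueField y) := Curv2.resAlgebra k C y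
  haveI : Module.Finite k (C.residueField y) := Groth.L21.Disc.finite_residueField_of_isClosed k hy
  have hb : Function.Bijective (algebraMap k (C.residueField y)) :=
    IsAlgClosed.algebraMap_bijective_of_isIntegral
  haveI : IsAlgClosed (C.residueField y) :=
    IsAlgClosed.of_ringEquiv k _ (RingEquiv.ofBijective (algebraMap k (C.residueField y)) hb)
  letI : (π.fiber y).Over (Spec (CommRingCat.of (C.residueField y))) := ⟨π.fiberToSpecResidueField y⟩
  haveI : IsProper ((π.fiber y) ↘ Spec (CommRingCat.of (C.residueField y))) :=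
    inferInstanceAs (IsProper (pullback.snd π (C.fromSpecResidueField y)))
  obtain ⟨e⟩ := e
  have h := Groth.L22.CurveDeg.h0_structure_eq_one (X := π.fiber y) (C.residueField y)
  rw [← Groth.L21.RR.h_congr (C.residueField y) e 0] at h
  exact h

variable (U : C.Opens) (hUne : (U : Set C).Nonempty) {D : X.Modules} (hD : PicF.IsInvertible D)
  (hrank : ∀ y ∈ U, IsClosed ({y} : Set C) → CohIII.fiberRank π D 0 y = 1)

include k hdimC hUne hD hrank in
/-- A twist from the base of a module with one section on the general fibres has a section. -/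
theorem exists_twist_section : ∃ M : C.Modules, PicF.IsInvertible M ∧
    Nontrivial (Coh.HH X (CohB1.tensorMod D ((Scheme.Modules.pullback π).obj M)) 0) := by
  haveI := Groth.L21.RR.isNoetherian_of_proper (X := X) k
  haveI := Groth.L21.RR.isNoetherian_of_proper (X := C) k
  haveI : C.IsSeparated := ⟨by rw [← terminal.comp_from (C ↘ Spec (CommRingCat.of k))]; infer_instance⟩
  haveI : IsProper π := by
    haveI : IsProper (π ≫ (C ↘ Spec (CommRingCat.of k))) := by rw [comp_over]; infer_instance
    exact IsProper.of_comp π (C ↘ Spec (CommRingCat.of k))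
  haveI := Groth.L03.SurfNum.flat_of_surjective k hdimC π
  haveI : Coh.IsQCoh D := Groth.L21.Extend.isQCoh_of_isInvertible hD
  haveI : JacobsonSpace C := LocallyOfFiniteType.jacobsonSpace (C ↘ Spec (CommRingCat.of k))
  haveI := Groth.L17.PushQCoh.hasInjectiveResolutions X
  have hfp : CohB1.IsFP D := Groth.L18.LFP.isFP_of_isFinLocFree _ (Groth.L16.Existence.isFinLocFree_of_isInvertible hD)
  have hfl := Groth.Agent.Pic0.isFlatOver_of_isInvertible π hD
  have hDc := Groth.L18.Ample.isCoh_of_isInvertible hD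
  -- rank one on an open
  let W₁ : C.Opens := ⟨_, Groth.L17.BC.isOpen_fiberRank_lt π D hfp hfl 0 1⟩
  let W₂ : C.Opens := ⟨_, Groth.L17.BC.isOpen_fiberRank_lt π D hfp hfl 0 2⟩
  have h1 : ∀ y ∈ U, 1 ≤ CohIII.fiberRank π D 0 y := fun y hy => by
    by_contra hlt
    obtain ⟨z, ⟨hzU, hzW⟩, hzc⟩ := nonempty_inter_closedPoints
      (Z := ((U ⊓ W₁ : C.Opens) : Set C)) ⟨y, hy, not_le.1 hlt⟩ (U ⊓ W₁).2.isLocallyClosed
    rw [mem_closedPoints_iff] at hzc
    have h := hrank z hzU hzc
    change CohIII.fiberRank π D 0 z < 1 at hzW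
    omega
  obtain ⟨y, hyU, hyc⟩ := nonempty_inter_closedPoints hUne U.2.isLocallyClosed
  rw [mem_closedPoints_iff] at hyc
  have hyW : y ∈ U ⊓ W₂ := ⟨hyU, by show CohIII.fiberRank π D 0 y < 2; rw [hrank y hyU hyc]; omega⟩
  obtain ⟨V, hV, hyV, hVW⟩ := exists_isAffineOpen_mem_and_subset (x := y) (U := U ⊓ W₂) hyW
  have hconst : ∀ z ∈ V, CohIII.fiberRank π D 0 z = 1 := fun z hz => by
    have ha := h1 z (hVW hz).1
    have hb : CohIII.fiberRank π D 0 z < 2 := (hVW hz).2
    omega
  obtain ⟨m⟩ := Groth.L17.BC.nonempty_local π hV D hDc hfl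
  haveI : IsNoetherianRing Γ(C, V) := IsLocallyNoetherian.component_noetherian ⟨V, hV⟩
  have hd0 : IsLocallyConstant (CohIII.dRank m.L (((0 : ℕ) : ℤ) - 1 + 1)) := by
    rw [sub_add_cancel, m.dRank_eq π 0]
    refine IsLocallyConstant.of_constant (X := PrimeSpectrum Γ(C, V)) _ fun a b => ?_
    have hmem : ∀ a, hV.fromSpec a ∈ V := fun a => by
      rw [← SetLike.mem_coe, ← hV.range_fromSpec]; exact ⟨a, rfl⟩
    show CohIII.fiberRank π D 0 (hV.fromSpec a) = CohIII.fiberRank π D 0 (hV.fromSpec b)
    rw [hconst _ (hmem a), hconst _ (hmem b)]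
  have hfree := Groth.L17.BC.Crit.freeC_of_isLocallyConstant m.L (m.finiteFlat π) hd0 (hV.primeIdealOf ⟨y, hyV⟩)
  rw [sub_add_cancel] at hfree
  obtain ⟨U', hyU', ⟨e⟩⟩ := m.exists_free π hyV 0 hfree.1 hfree.2
  rw [hconst y hyV] at e
  -- the direct image is not zero
  haveI := Groth.L17.PushQCoh.additive_push π
  let F := (Coh.push π).obj D
  have hFc : Coh.IsCoh F :=
    Groth.L16.CohSupport.isCoh_of_iso (((Coh.push π).rightDerivedZeroIsoSelf).app D)
      (Groth.L17.ProperCoh.isCoh_Rpush π D hDc 0)
  have hFne : ¬ IsZero F := by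
    intro hz
    have hz1 : IsZero (((Coh.Rpush π 0).obj D).restrict U'.ι) :=
      (Scheme.Modules.restrictFunctor U'.ι).map_isZero (hz.of_iso (((Coh.push π).rightDerivedZeroIsoSelf).app D))
    have hz2 : IsZero (Coh.structureModule U'.toScheme) :=
      (hz1.of_iso e.symm).of_iso (coproductUniqueIso (fun _ : Fin 1 => Coh.structureModule U'.toScheme)).symm
    rw [Groth.L21.Mod.isZero_iff_support_eq_empty] at hz2
    have := Groth.L22.CurveAmple.support_eq_univ (Groth.L18.Ample.isInvertible_structureModule U'.toScheme)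
    rw [hz2] at this
    exact Set.notMem_empty _ (this.ge (Set.mem_univ (⟨y, hyU'⟩ : U'.toScheme)))
  -- a twist with a section
  obtain ⟨A, hA⟩ := exists_ample_curve (k := k) hdimC hyc
  obtain ⟨n, hn⟩ := Groth.L18.Ample.exists_forall_isGloballyGenerated hA F hFc
  have hgg := hn n le_rfl
  set M := CohB1.tensorPow A n
  have hM : PicF.IsInvertible M := Groth.L18.Ample.isInvertible_tensorPow hA.1 n
  obtain ⟨M', hM', ⟨eM⟩⟩ := Groth.L08.Cube.exists_inverse hM
  haveI := Groth.L22.PDual.isEquivalence_tensorRightF eM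
  obtain ⟨ι, p, hp⟩ := hgg
  obtain ⟨i, hi⟩ : ∃ i, Sigma.ι (fun _ : ι => Coh.structureModule C) i ≫ p ≠ 0 := by
    by_contra hall
    push Not at hall
    have hp0 : p = 0 := Sigma.hom_ext _ _ fun i => (hall i).trans comp_zero.symm
    haveI := hp
    have hz : IsZero ((tensorRightF M).obj F) := (IsZero.iff_id_eq_zero _).2 (by
      rw [← cancel_epi p]
      show p ≫ 𝟙 (CohB1.tensorMod F M) = p ≫ 0
      rw [hp0]; simp)
    exact hFne ((IsZero.iff_id_eq_zero _).2 ((tensorRightF M).map_injective (by
      rw [Functor.map_zero]; exact hz.eq_of_src _ _)))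
  set φ : Coh.structureModule C ⟶ CohB1.tensorMod F M := Sigma.ι (fun _ : ι => Coh.structureModule C) i ≫ p
  let a : (tensorRightF M).obj M' ≅ Coh.structureModule C := tensorComm M' M ≪≫ eM
  obtain ⟨ψ, hψ⟩ := (tensorRightF M).map_surjective (a.hom ≫ φ)
  have hψ0 : ψ ≠ 0 := fun h0 => hi (by
    have : a.hom ≫ φ = 0 := by rw [← hψ, h0, Functor.map_zero]
    rw [← cancel_epi a.hom, this, comp_zero])
  let adj := Scheme.Modules.pullbackPushforwardAdjunction π
  let χ : (Scheme.Modules.pullback π).obj M' ⟶ D := (adj.homEquiv M' D).symm ψ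
  have hχ : χ ≠ 0 := fun h0 => hψ0 (by
    have h := congrArg (adj.homEquiv M' D) h0
    rw [Equiv.apply_symm_apply] at h
    rw [h, Adjunction.homEquiv_unit, Functor.map_zero, comp_zero])
  let P := (Scheme.Modules.pullback π).obj M
  have hP : PicF.IsInvertible P := Groth.L18.Ample.isInvertible_pullback π hM
  have eP : CohB1.tensorMod P ((Scheme.Modules.pullback π).obj M') ≅ Coh.structureModule X :=
    Groth.L29.DC.PullTensor.pullTensor π M M' ≪≫ (Scheme.Modules.pullback π).mapIso eM ≪≫
      Groth.L29.LocFree.pullbackUnitIso π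
  haveI := Groth.L22.PDual.isEquivalence_tensorRightF eP
  let s : Coh.structureModule X ⟶ (tensorRightF P).obj D :=
    (tensorComm _ _ ≪≫ eP).inv ≫ (tensorRightF P).map χ
  have hs : s ≠ 0 := fun h0 => hχ ((tensorRightF P).map_injective (by
    rw [Functor.map_zero]
    exact (cancel_epi (tensorComm _ _ ≪≫ eP).inv).1 (h0.trans comp_zero.symm)))
  exact ⟨M, hM, Groth.L22.Big.nontrivial_of_section k (Groth.L18.GenLoc.isInvertible_tensor hD hP) hs⟩

end Groth.L03.SurfFib
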