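import Groth.Agent.S1688
import Groth.Agent.L21.RR.Coh
import Groth.Agent.L20.ModStalk
import Groth.Agent.L03.SurfFib.Zariski
import Groth.Agent.L17.ProperCoh
import Groth.Agent.L18.KRRAmple
import Groth.Agent.L17.BC.GenApply
import Groth.Agent.L17.BC.Criteria
import Groth.Agent.L18.LocFreeFP
import Groth.Agent.L26.Pic0.Support

/-!
# Direct images of line bundles to a curve, and their rank
-/

set_option autoImplicit false
set_option backward.isDefEq.respectTransparency false
set_option linter.style.haveILetI false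
set_option linter.unusedSectionVars false
universe u

open CategoryTheory CategoryTheory.Limits AlgebraicGeometry TopologicalSpace Opposite

noncomputable section

namespace Groth.L03.SurfFib.PushFree

variable {X B : Scheme.{u}} [IsIntegral X] (f : X ⟶ B) (hf : ∀ U : B.Opens, IsIso (f.app U))

/-- A section of a line bundle killed by a nonzero function vanishes. -/
theorem eq_zero_of_smul {L : X.Modules} (hL : PicF.IsInvertible L) {V : X.Opens} {b : Γ(X, V)} (hb : b ≠ 0)
    {s : Γ(L, V)} (h : b • s = 0) : s = 0 := by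
  refine TopCat.Presheaf.section_ext (⟨L.presheaf, L.isSheaf⟩ : TopCat.Sheaf AddCommGrpCat X) V _ _ fun x hx => ?_
  haveI : Nonempty V := ⟨⟨x, hx⟩⟩
  show L.presheaf.germ V x hx s = L.presheaf.germ V x hx 0
  rw [map_zero]
  obtain ⟨e, he⟩ := Groth.L21.RR.exists_frame_stalk hL x
  obtain ⟨r, hr⟩ := he.2 (L.presheaf.germ V x hx s)
  have hr' : r • e = L.presheaf.germ V x hx s := hr
  have h1 : X.presheaf.germ V x hx b • L.presheaf.germ V x hx s = 0 := by
    rw [← Groth.L20.ModStalk.germ_smul, h, map_zero]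
  rw [← hr', smul_smul] at h1
  have h2 : X.presheaf.germ V x hx b * r = 0 := he.1 (h1.trans (zero_smul (X.presheaf.stalk x) e).symm)
  have h3 : X.presheaf.germ V x hx b ≠ 0 := fun h0 => hb (germ_injective_of_isIntegral X x hx
    (h0.trans (map_zero _).symm))
  rw [← hr', (mul_eq_zero.1 h2).resolve_left h3, zero_smul]

include hf in
theorem torsionFree_push {L : X.Modules} (hL : PicF.IsInvertible L) (y : B) :
    NoZeroSMulDivisors (B.presheaf.stalk y) (((Scheme.Modules.pushforward f).obj L).presheaf.stalk y) := by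
  set E := (Scheme.Modules.pushforward f).obj L
  refine ⟨fun {c v} h => ?_⟩
  obtain ⟨U, hyU, s, rfl⟩ := TopCat.Presheaf.exists_germ_eq (F := E.presheaf) (x := y) v
  obtain ⟨V, hyV, a, rfl⟩ := TopCat.Presheaf.exists_germ_eq (F := B.presheaf) (x := y) c
  have hW : y ∈ U ⊓ V := ⟨hyU, hyV⟩
  rw [← Groth.L20.ModStalk.germ_rs E (inf_le_left : U ⊓ V ≤ U) hW s,
    ← TopCat.Presheaf.germ_res_apply B.presheaf (homOfLE (inf_le_right : U ⊓ V ≤ V)) y hW a] at h ⊢
  set s' := Groth.L18.Frame.rs E (inf_le_left : U ⊓ V ≤ U) s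
  set a' := B.presheaf.map (homOfLE (inf_le_right : U ⊓ V ≤ V)).op a
  rw [← Groth.L20.ModStalk.germ_smul] at h
  obtain ⟨W, hyW, i, i', hW'⟩ := TopCat.Presheaf.germ_eq (F := E.presheaf) y hW hW (a' • s') 0
    (h.trans (map_zero _).symm)
  rw [map_zero] at hW'
  change Groth.L18.Frame.rs E i.le (a' • s') = 0 at hW'
  have hsmul : Groth.L18.Frame.rs E i.le (a' • s') =
      B.presheaf.map (homOfLE i.le).op a' • Groth.L18.Frame.rs E i.le s' := E.map_smul _ _ _
  rw [hsmul] at hW'
  by_cases ha : B.presheaf.map (homOfLE i.le).op a' = 0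
  · left
    rw [← TopCat.Presheaf.germ_res_apply B.presheaf (homOfLE i.le) y hyW a', ha, map_zero]
  · right
    rw [← Groth.L20.ModStalk.germ_rs E i.le hyW s']
    have hb : (f.app W) (B.presheaf.map (homOfLE i.le).op a') ≠ 0 := fun h0 => ha (by
      haveI := hf W
      exact (ConcreteCategory.bijective_of_isIso (f.app W)).1 (h0.trans (map_zero _).symm))
    have hs : (show Γ(L, f ⁻¹ᵁ W) from Groth.L18.Frame.rs E i.le s') = 0 := eq_zero_of_smul hL hb hW'
    rw [show Groth.L18.Frame.rs E i.le s' = (0 : Γ(E, W)) from hs, map_zero]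

include hf in
theorem exists_rank_push [IsProper f] [IsIntegral B] [IsLocallyNoetherian B] [IsLocallyNoetherian X]
    (hreg : ∀ y : B, IsRegularLocalRing (B.presheaf.stalk y)) (hdim : topologicalKrullDim B ≤ 1)
    [HasInjectiveResolutions X.Modules] {L : X.Modules} (hL : PicF.IsInvertible L) :
    ∃ r, FlatMod.IsFinLocFreeOfRank r ((Coh.push f).obj L) := by
  haveI := Groth.L17.PushQCoh.additive_push f
  haveI : Coh.IsQCoh L := Groth.L21.Extend.isQCoh_of_isInvertible hL
  have hFc : Coh.IsCoh ((Coh.push f).obj L) :=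
    Groth.L16.CohSupport.isCoh_of_iso (((Coh.push f).rightDerivedZeroIsoSelf).app L)
      (Groth.L17.ProperCoh.isCoh_Rpush f L (Groth.L18.Ample.isCoh_of_isInvertible hL) 0)
  exact Groth.L18.KRRAmple.exists_rank
    ((Groth.Agent.S1688.result B hreg hdim _ hFc).1 (torsionFree_push f hf hL))

omit [IsIntegral X] in
/-- On a dense open the fibre rank is the rank of the direct image. -/
theorem exists_open_fiberRank [IsProper f] [LocallyOfFinitePresentation f] [IrreducibleSpace B]
    [IsLocallyNoetherian B] [IsReduced B] [IsLocallyNoetherian X] [HasInjectiveResolutions X.Modules] [Flat f]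
    {L : X.Modules} (hL : PicF.IsInvertible L) {r : ℕ} (hr : FlatMod.IsFinLocFreeOfRank r ((Coh.push f).obj L)) :
    ∃ U : B.Opens, (U : Set B).Nonempty ∧ ∀ y ∈ U, CohIII.fiberRank f L 0 y = r := by
  haveI : Coh.IsQCoh L := Groth.L21.Extend.isQCoh_of_isInvertible hL
  have hc := Groth.L18.Ample.isCoh_of_isInvertible hL
  have hfp : CohB1.IsFP L := Groth.L18.LFP.isFP_of_isFinLocFree _ (Groth.L16.Existence.isFinLocFree_of_isInvertible hL)
  have hfl := Groth.Agent.Pic0.isFlatOver_of_isInvertible f hL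
  classical
  have hex : ∃ m, ∃ y : B, CohIII.fiberRank f L 0 y = m := ⟨_, genericPoint B, rfl⟩
  obtain ⟨y₀, hy₀⟩ := Nat.find_spec hex
  have hmin : ∀ y, Nat.find hex ≤ CohIII.fiberRank f L 0 y := fun y => Nat.find_min' hex ⟨y, rfl⟩
  let W : B.Opens := ⟨_, Groth.L17.BC.isOpen_fiberRank_lt f L hfp hfl 0 (Nat.find hex + 1)⟩
  have hyW : y₀ ∈ W := by
    show CohIII.fiberRank f L 0 y₀ < _
    omega
  obtain ⟨V, hV, hyV, hVW⟩ := exists_isAffineOpen_mem_and_subset (x := y₀) (U := W) hyW
  have hconst : ∀ z ∈ V, CohIII.fiberRank f L 0 z = Nat.find hex := fun z hz => by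
    have h1 : CohIII.fiberRank f L 0 z < Nat.find hex + 1 := hVW hz
    have := hmin z
    omega
  refine ⟨V, ⟨y₀, hyV⟩, fun y hy => ?_⟩
  rw [hconst y hy]
  obtain ⟨m⟩ := Groth.L17.BC.nonempty_local f hV L hc hfl
  haveI : IsNoetherianRing Γ(B, V) := IsLocallyNoetherian.component_noetherian ⟨V, hV⟩
  have hd0 : IsLocallyConstant (CohIII.dRank m.L (((0 : ℕ) : ℤ) - 1 + 1)) := by
    rw [sub_add_cancel, m.dRank_eq f 0]
    refine IsLocallyConstant.of_constant (X := PrimeSpectrum Γ(B, V)) _ fun a b => ?_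
    have hmem : ∀ a, hV.fromSpec a ∈ V := fun a => by
      rw [← SetLike.mem_coe, ← hV.range_fromSpec]; exact ⟨a, rfl⟩
    show CohIII.fiberRank f L 0 (hV.fromSpec a) = CohIII.fiberRank f L 0 (hV.fromSpec b)
    rw [hconst _ (hmem a), hconst _ (hmem b)]
  have hfree := Groth.L17.BC.Crit.freeC_of_isLocallyConstant m.L (m.finiteFlat f) hd0 (hV.primeIdealOf ⟨y₀, hyV⟩)
  rw [sub_add_cancel] at hfree
  obtain ⟨U', hyU', ⟨e⟩⟩ := m.exists_free f hyV 0 hfree.1 hfree.2
  obtain ⟨U'', hyU'', ⟨e'⟩⟩ := hr y₀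
  haveI := Groth.L17.PushQCoh.additive_push f
  have h := Groth.L18.KRRAmple.rank_unique hyU' hyU''
    ((Scheme.Modules.restrictFunctor U'.ι).mapIso (((Coh.push f).rightDerivedZeroIsoSelf).app L).symm ≪≫ e) e'
  exact hy₀.symm.trans h

end Groth.L03.SurfFib.PushFree
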